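import Mathlib

/-!
# Coordinates for an irreducible fixed point free action of a cyclic group of order `m`

Here `m * d = 2 ^ n - 1` and `2` has order `n` modulo `m`.
-/

set_option autoImplicit false
set_option linter.all false

namespace CfsgLib.PGroups.Suzuki.Semi

theorem exists_chart {Q : Type*} [Group Q] [Finite Q] [Nontrivial Q] {n : ℕ} (hn : 2 ≤ n)
    {F : Type*} [Field F] [Fintype F] (hcard : Fintype.card F = 2 ^ n) (hexp : ∀ x : Q, x * x = 1)
    {m : ℕ} (hm1 : 1 < m) (hdvd : m ∣ 2 ^ n - 1) (hstep : ∀ s, m ∣ 2 ^ s - 1 → n ∣ s)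
    (f : MulAut Q) (hord : f ^ m = 1)
    (hfpf : ∀ (i : ℕ) (x : Q), x ≠ 1 → (f ^ i) x = x → m ∣ i)
    (hirr : ∀ H : Subgroup Q, (∀ x ∈ H, f x ∈ H) → H = ⊥ ∨ H = ⊤) :
    ∃ (e : Q → F) (μ : F), orderOf μ = m ∧ Function.Bijective e ∧
      (∀ x y, e (x * y) = e x + e y) ∧ ∀ x, e (f x) = μ * e x := by
  classical
  have hinv : ∀ x : Q, x⁻¹ = x := fun x => inv_eq_of_mul_eq_one_right (hexp x)
  have hmc : ∀ a b : Q, a * b = b * a := fun a b => by
    calc a * b = (a * b)⁻¹ := (hinv _).symm
      _ = b⁻¹ * a⁻¹ := mul_inv_rev a b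
      _ = b * a := by rw [hinv, hinv]
  letI : CommGroup Q := { ‹Group Q› with mul_comm := hmc }
  set φ : AddMonoid.End (Additive Q) := MonoidHom.toAdditive f.toMonoidHom with hφ
  have hφa : ∀ x : Q, φ (Additive.ofMul x) = Additive.ofMul (f x) := fun x => rfl
  have hφpow : ∀ (i : ℕ) (x : Q), (φ ^ i) (Additive.ofMul x) = Additive.ofMul ((f ^ i) x) := by
    intro i
    induction i with
    | zero => intro x; rfl
    | succ i ih =>
      intro x
      rw [pow_succ', pow_succ']
      show φ ((φ ^ i) (Additive.ofMul x)) = _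
      rw [ih, hφa]; rfl
  set R : Subring (AddMonoid.End (Additive Q)) := Subring.closure {φ} with hR
  have hcomm : ∀ r ∈ R, Commute r φ := by
    intro r hr
    induction hr using Subring.closure_induction with
    | mem x hx => rw [Set.mem_singleton_iff.mp hx]
    | zero => exact Commute.zero_left φ
    | one => exact Commute.one_left φ
    | add x y _ _ hx hy => exact hx.add_left hy
    | neg x _ hx => exact hx.neg_left
    | mul x y _ _ hx hy => exact hx.mul_left hy
  have hcomm2 : ∀ r ∈ R, ∀ s ∈ R, Commute r s := by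
    intro r hr s hs
    induction hs using Subring.closure_induction with
    | mem x hx => rw [Set.mem_singleton_iff.mp hx]; exact hcomm r hr
    | zero => exact Commute.zero_right r
    | one => exact Commute.one_right r
    | add x y _ _ hx hy => exact hx.add_right hy
    | neg x _ hx => exact hx.neg_right
    | mul x y _ _ hx hy => exact hx.mul_right hy
  letI : CommRing R := { (inferInstance : Ring R) with
    mul_comm := fun r s => Subtype.ext (hcomm2 r r.2 s s.2).eq }
  obtain ⟨a₀, ha₀⟩ := exists_ne (1 : Q)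
  have hinj : ∀ r : R, r ≠ 0 → Function.Injective (r : AddMonoid.End (Additive Q)) := by
    intro r hr
    let H : Subgroup Q :=
      { carrier := {x | (r : AddMonoid.End (Additive Q)) (Additive.ofMul x) = 0}
        one_mem' := map_zero (r : AddMonoid.End (Additive Q))
        mul_mem' := fun {x y} hx hy => by
          show (r : AddMonoid.End (Additive Q)) (Additive.ofMul x + Additive.ofMul y) = 0
          rw [map_add, hx, hy, add_zero]
        inv_mem' := fun {x} hx => by
          show (r : AddMonoid.End (Additive Q)) (-Additive.ofMul x) = 0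
          rw [map_neg, hx, neg_zero] }
    have hH : ∀ x ∈ H, f x ∈ H := fun x hx => by
      show (r : AddMonoid.End (Additive Q)) (Additive.ofMul (f x)) = 0
      rw [← hφa, show (r : AddMonoid.End (Additive Q)) (φ (Additive.ofMul x))
          = φ ((r : AddMonoid.End (Additive Q)) (Additive.ofMul x)) from
          congrArg (fun g : AddMonoid.End (Additive Q) => g (Additive.ofMul x)) (hcomm r r.2).eq,
        show (r : AddMonoid.End (Additive Q)) (Additive.ofMul x) = 0 from hx, map_zero]
    rcases hirr H hH with h | h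
    · refine (injective_iff_map_eq_zero _).mpr fun z hz => ?_
      have : z.toMul ∈ H := hz
      rw [h, Subgroup.mem_bot] at this
      exact this
    · exact absurd (Subtype.ext (AddMonoidHom.ext fun z =>
        (h.ge (Subgroup.mem_top z.toMul) : z.toMul ∈ H))) hr
  haveI : Nontrivial R := ⟨⟨1, 0, fun h => ha₀ (by
    have := congrArg (fun r : R => (r : AddMonoid.End (Additive Q)) (Additive.ofMul a₀)) h
    exact this)⟩⟩
  haveI : NoZeroDivisors R := ⟨fun {r s} h => by
    by_contra hrs
    push Not at hrs
    have h1 : (r : AddMonoid.End (Additive Q)) ((s : AddMonoid.End (Additive Q)) (Additive.ofMul a₀)) = 0 := by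
      have := congrArg (fun z : R => (z : AddMonoid.End (Additive Q)) (Additive.ofMul a₀)) h
      exact this
    have h2 := hinj r hrs.1 (h1.trans (map_zero _).symm)
    exact ha₀ (hinj s hrs.2 (h2.trans (map_zero _).symm))⟩
  haveI : IsDomain R := NoZeroDivisors.to_isDomain R
  haveI : Finite R := Finite.of_injective
    (fun (r : R) (z : Additive Q) => (r : AddMonoid.End (Additive Q)) z) fun r s h =>
      Subtype.ext (AddMonoidHom.ext fun z => congrFun h z)
  letI : Field R := (Finite.isField_of_domain R).toField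
  haveI : Fintype R := Fintype.ofFinite R
  haveI : CharP R 2 := CharTwo.of_one_ne_zero_of_two_eq_zero one_ne_zero (by
    refine Subtype.ext (AddMonoidHom.ext fun z => ?_)
    rw [show (2 : R) = 1 + 1 from one_add_one_eq_two.symm]
    show z + z = 0
    exact hexp z.toMul)
  let ev : R → Additive Q := fun r => (r : AddMonoid.End (Additive Q)) (Additive.ofMul a₀)
  have hevinj : Function.Injective ev := fun r s h => by
    by_contra hne
    have h0 : ((r - s : R) : AddMonoid.End (Additive Q)) (Additive.ofMul a₀) = 0 := by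
      show (r : AddMonoid.End (Additive Q)) (Additive.ofMul a₀) - (s : AddMonoid.End (Additive Q)) (Additive.ofMul a₀) = 0
      exact sub_eq_zero.mpr h
    exact ha₀ (hinj (r - s) (sub_ne_zero.mpr hne) (h0.trans (map_zero _).symm))
  let φR : R := ⟨φ, Subring.subset_closure rfl⟩
  have hφR : ∀ (i : ℕ) (x : Q),
      ((φR ^ i : R) : AddMonoid.End (Additive Q)) (Additive.ofMul x) = Additive.ofMul ((f ^ i) x) := fun i x => by
    rw [SubmonoidClass.coe_pow]; exact hφpow i x
  have hevsurj : Function.Surjective ev := by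
    let H : Subgroup Q :=
      { carrier := {x | ∃ r : R, ev r = Additive.ofMul x}
        one_mem' := ⟨0, rfl⟩
        mul_mem' := fun {x y} hx hy => by
          obtain ⟨r, hr⟩ := hx
          obtain ⟨s, hs⟩ := hy
          exact ⟨r + s, show ev r + ev s = Additive.ofMul x + Additive.ofMul y by rw [hr, hs]⟩
        inv_mem' := fun {x} hx => by
          obtain ⟨r, hr⟩ := hx
          exact ⟨-r, show -ev r = -Additive.ofMul x by rw [hr]⟩ }
    have hH : ∀ x ∈ H, f x ∈ H := fun x hx => by
      obtain ⟨r, hr⟩ := hx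
      refine ⟨φR * r, ?_⟩
      show φ (ev r) = Additive.ofMul (f x)
      rw [hr]; rfl
    rcases hirr H hH with h | h
    · exact absurd (Subgroup.mem_bot.mp (h.le (⟨1, rfl⟩ : a₀ ∈ H))) ha₀
    · intro z
      exact (h.ge (Subgroup.mem_top z.toMul) : z.toMul ∈ H)
  have hN : 2 ^ n - 1 + 1 = 2 ^ n := Nat.succ_pred_eq_of_pos (pow_pos two_pos n)
  have hφN : φR ^ m = 1 := by
    refine Subtype.ext (AddMonoidHom.ext fun z => ?_)
    show ((φR ^ m : R) : AddMonoid.End (Additive Q)) (Additive.ofMul z.toMul) = z
    rw [hφR, hord]; rfl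
  have hordφ : orderOf φR = m := by
    refine Nat.dvd_antisymm (orderOf_dvd_of_pow_eq_one hφN) (hfpf _ a₀ ha₀ ?_)
    have := hφR (orderOf φR) a₀
    rw [pow_orderOf_eq_one] at this
    exact (Additive.ofMul.injective this).symm
  have hRcard : Fintype.card R = 2 ^ n := by
    refine le_antisymm ?_ ?_
    · have hall : ∀ r : R, r ^ 2 ^ n = r := by
        rintro ⟨r, hr⟩
        induction hr using Subring.closure_induction with
        | mem x hx =>
          obtain rfl := Set.mem_singleton_iff.mp hx
          show φR ^ 2 ^ n = φR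
          obtain ⟨c, hc⟩ := hdvd
          rw [← hN, pow_succ, hc, pow_mul, hφN, one_pow, one_mul]
        | zero => exact zero_pow (pow_pos two_pos n).ne'
        | one => exact one_pow _
        | add x y hx hy ihx ihy =>
          show ((⟨x, hx⟩ : R) + ⟨y, hy⟩) ^ 2 ^ n = ⟨x, hx⟩ + ⟨y, hy⟩
          rw [add_pow_char_pow, ihx, ihy]
        | neg x hx ihx =>
          show (-(⟨x, hx⟩ : R)) ^ 2 ^ n = -⟨x, hx⟩
          rw [CharTwo.neg_eq, ihx]
        | mul x y hx hy ihx ihy =>
          show ((⟨x, hx⟩ : R) * ⟨y, hy⟩) ^ 2 ^ n = ⟨x, hx⟩ * ⟨y, hy⟩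
          rw [mul_pow, ihx, ihy]
      have hne := FiniteField.X_pow_card_pow_sub_X_ne_zero R (by omega : n ≠ 0) one_lt_two
      have hdeg := FiniteField.X_pow_card_pow_sub_X_natDegree_eq R (by omega : n ≠ 0) one_lt_two
      have hsub : (Finset.univ : Finset R).val ⊆
          (Polynomial.X ^ 2 ^ n - Polynomial.X : Polynomial R).roots := fun r _ =>
        Polynomial.mem_roots'.mpr ⟨hne, by simp [hall r]⟩
      have := Multiset.card_le_card ((Multiset.le_iff_subset Finset.univ.nodup).mpr hsub)
      rw [Finset.card_val, Finset.card_univ] at this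
      exact this.trans ((Polynomial.card_roots' _).trans hdeg.le)
    · haveI : Fact (Nat.Prime 2) := ⟨Nat.prime_two⟩
      obtain ⟨k, -, hk⟩ := FiniteField.card R 2
      have hφ0 : φR ≠ 0 := fun h0 => by
        rw [h0, zero_pow (by omega)] at hφN
        exact zero_ne_one hφN
      have h1 := orderOf_dvd_of_pow_eq_one (FiniteField.pow_card_sub_one_eq_one φR hφ0)
      rw [hordφ, hk] at h1
      rw [hk]
      exact Nat.pow_le_pow_right two_pos (Nat.le_of_dvd k.pos (hstep _ h1))
  let ι := FiniteField.ringEquivOfCardEq (hRcard.trans hcard.symm)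
  let E : R ≃ Additive Q := Equiv.ofBijective ev ⟨hevinj, hevsurj⟩
  refine ⟨fun x => ι (E.symm (Additive.ofMul x)), ι φR, ?_,
    ι.bijective.comp (E.symm.bijective.comp Additive.ofMul.bijective), fun x y => ?_, fun x => ?_⟩
  · rw [← hordφ]; exact orderOf_injective ι.toMonoidHom ι.injective φR
  · show ι _ = ι _ + ι _
    rw [← map_add ι]
    refine congrArg ι (E.symm_apply_eq.mpr ?_)
    show Additive.ofMul x + Additive.ofMul y = ev (E.symm (Additive.ofMul x)) + ev (E.symm (Additive.ofMul y))
    rw [show ev (E.symm (Additive.ofMul x)) = Additive.ofMul x from E.apply_symm_apply _,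
      show ev (E.symm (Additive.ofMul y)) = Additive.ofMul y from E.apply_symm_apply _]
  · show ι _ = ι φR * ι _
    rw [← map_mul ι]
    refine congrArg ι (E.symm_apply_eq.mpr ?_)
    show Additive.ofMul (f x) = φ (ev (E.symm (Additive.ofMul x)))
    rw [show ev (E.symm (Additive.ofMul x)) = Additive.ofMul x from E.apply_symm_apply _]
    rfl

end CfsgLib.PGroups.Suzuki.Semi
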