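import Mathlib
import Cfsg.Agent.Lib.PGroups.Suzuki.Weights

/-!
# Weights for a subgroup of small index of the multiplicative group of a field with `2 ^ n` elements

`two_pows_modulus`: sums of two powers of two are distinguished modulo `(2 ^ n - 1) / d` when `d`
divides `n` and `(n, d) ≠ (6, 3)`.  The two consequences `bilinear_weight` and `alternating_weight`
hold without exception.
-/

set_option autoImplicit false
set_option linter.all false

namespace CfsgLib.PGroups.Suzuki.Semi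

open CfsgLib.PGroups.Suzuki

variable {n m d : ℕ}

theorem lt_pow_of_large : ∀ n, 32 ≤ n → n < 2 ^ ((n + 3) / 4 - 1) := by
  have key : ∀ k, 7 ≤ k → 4 * k + 4 < 2 ^ k := by
    intro k hk
    induction k, hk using Nat.le_induction with
    | base => norm_num
    | succ k hk ih =>
      rw [pow_succ]
      omega
  intro n hn
  have := key ((n + 3) / 4 - 1) (by omega)
  omega

set_option synthInstance.maxSize 2000 in
set_option maxRecDepth 100000 in
theorem small_index : ∀ n < 32, ∀ d < 32, 2 ≤ n → n % d = 0 → (2 ^ n - 1) % d = 0 → d ≠ 1 →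
    ¬(n = 6 ∧ d = 3) → d < 2 ^ ((n + 3) / 4 - 1) := by
  decide

/-- Cyclic shift of exponents. -/
def sh (n r x : ℕ) : ℕ := if x + r < n then x + r else x + r - n

theorem exists_gap_sorted {a b c e : ℕ} (hab : a ≤ b) (hbc : b ≤ c) (hce : c ≤ e) (he : e < n) :
    ∃ r, r ≤ n ∧ sh n r a + (n + 3) / 4 ≤ n ∧ sh n r b + (n + 3) / 4 ≤ n ∧
      sh n r c + (n + 3) / 4 ≤ n ∧ sh n r e + (n + 3) / 4 ≤ n := by
  obtain ⟨g, hg, hg4⟩ : ∃ g, g = (n + 3) / 4 ∧ 4 * g < n + 4 := ⟨_, rfl, by omega⟩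
  rw [← hg]
  have h : g ≤ a + n - e ∨ g ≤ b - a ∨ g ≤ c - b ∨ g ≤ e - c := by omega
  -- shift the exponent after the large gap to zero
  rcases h with h | h | h | h
  · exact ⟨n - a, by omega, by unfold sh; split_ifs <;> omega, by unfold sh; split_ifs <;> omega,
      by unfold sh; split_ifs <;> omega, by unfold sh; split_ifs <;> omega⟩
  · exact ⟨n - b, by omega, by unfold sh; split_ifs <;> omega, by unfold sh; split_ifs <;> omega,
      by unfold sh; split_ifs <;> omega, by unfold sh; split_ifs <;> omega⟩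
  · exact ⟨n - c, by omega, by unfold sh; split_ifs <;> omega, by unfold sh; split_ifs <;> omega,
      by unfold sh; split_ifs <;> omega, by unfold sh; split_ifs <;> omega⟩
  · exact ⟨n - e, by omega, by unfold sh; split_ifs <;> omega, by unfold sh; split_ifs <;> omega,
      by unfold sh; split_ifs <;> omega, by unfold sh; split_ifs <;> omega⟩

theorem exists_gap {a b c e : ℕ} (ha : a < n) (hb : b < n) (hc : c < n) (he : e < n) :
    ∃ r, r ≤ n ∧ sh n r a + (n + 3) / 4 ≤ n ∧ sh n r b + (n + 3) / 4 ≤ n ∧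
      sh n r c + (n + 3) / 4 ≤ n ∧ sh n r e + (n + 3) / 4 ≤ n := by
  wlog h1 : a ≤ b generalizing a b
  · obtain ⟨r, h0, p1, p2, p3, p4⟩ := this hb ha (by omega)
    exact ⟨r, h0, p2, p1, p3, p4⟩
  wlog h2 : c ≤ e generalizing c e
  · obtain ⟨r, h0, p1, p2, p3, p4⟩ := this he hc (by omega)
    exact ⟨r, h0, p1, p2, p4, p3⟩
  wlog h3 : a ≤ c generalizing a b c e
  · obtain ⟨r, h0, p1, p2, p3, p4⟩ := this hc he h2 ha hb h1 (by omega)
    exact ⟨r, h0, p3, p4, p1, p2⟩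
  rcases le_total b c with h4 | h4
  · exact exists_gap_sorted h1 h4 h2 he
  rcases le_total b e with h5 | h5
  · obtain ⟨r, h0, p1, p2, p3, p4⟩ := exists_gap_sorted h3 h4 h5 he
    exact ⟨r, h0, p1, p3, p2, p4⟩
  · obtain ⟨r, h0, p1, p2, p3, p4⟩ := exists_gap_sorted h3 h2 h5 hb
    exact ⟨r, h0, p1, p4, p2, p3⟩

theorem two_pows_modulus (hn : 2 ≤ n) (hmd : m * d = 2 ^ n - 1) (hd : d ∣ n) (hex : ¬(n = 6 ∧ d = 3))
    {a b c e : ℕ} (ha : a < n) (hb : b < n) (hc : c < n) (he : e < n)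
    (h : 2 ^ a + 2 ^ b ≡ 2 ^ c + 2 ^ e [MOD m]) : (a = c ∧ b = e) ∨ (a = e ∧ b = c) := by
  rcases eq_or_ne d 1 with rfl | hd1
  · rw [mul_one] at hmd
    subst hmd
    exact two_pows hn ha hb hc he h
  have hdlt : d < 2 ^ ((n + 3) / 4 - 1) := by
    have hdn : d ≤ n := Nat.le_of_dvd (by omega) hd
    rcases lt_or_ge n 32 with h32 | h32
    · exact small_index n h32 d (by omega) hn (Nat.mod_eq_zero_of_dvd hd)
        (Nat.mod_eq_zero_of_dvd ⟨m, by rw [← hmd, mul_comm]⟩) hd1 hex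
    · exact hdn.trans_lt (lt_pow_of_large n h32)
  obtain ⟨r, hr, hra, hrb, hrc, hre⟩ := exists_gap (n := n) ha hb hc he
  have hshift : ∀ x, x < n → 2 ^ sh n r x ≡ 2 ^ x * 2 ^ r [MOD m] := by
    intro x hx
    unfold sh
    rw [← pow_add]
    split_ifs with hxr
    · rfl
    · refine (Nat.ModEq.of_dvd ⟨d, hmd.symm⟩ ?_)
      refine ((Nat.modEq_iff_dvd' ?_).mpr ?_)
      · exact Nat.pow_le_pow_right two_pos (by omega)
      · obtain ⟨y, hy⟩ : ∃ y, x + r = y + n := ⟨x + r - n, by omega⟩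
        rw [hy, Nat.add_sub_cancel, pow_add]
        exact ⟨2 ^ y, by rw [Nat.sub_mul, one_mul, mul_comm (2 ^ n)]⟩
  have hmod : 2 ^ sh n r a + 2 ^ sh n r b ≡ 2 ^ sh n r c + 2 ^ sh n r e [MOD m] := by
    refine (((hshift a ha).add (hshift b hb)).trans ?_).trans ((hshift c hc).add (hshift e he)).symm
    rw [← add_mul, ← add_mul]
    exact h.mul_right _
  set g := (n + 3) / 4 with hg
  have hbound : ∀ x, x + g ≤ n → 1 ≤ 2 ^ x ∧ 2 ^ x ≤ 2 ^ (n - g) := fun x hx =>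
    ⟨Nat.one_le_two_pow, Nat.pow_le_pow_right two_pos (by omega)⟩
  have hm : 2 * 2 ^ (n - g) ≤ m := by
    by_contra hlt
    push Not at hlt
    rw [← pow_succ'] at hlt
    set A := 2 ^ (n - g + 1) with hA
    set B := 2 ^ (g - 1) with hB
    have hAB : A * B = 2 ^ n := by
      rw [hA, hB, ← pow_add]
      congr 1
      omega
    have h2 : m * d ≤ (A - 1) * (B - 1) := Nat.mul_le_mul (by omega) (by omega)
    have hA2 : 2 ≤ A := by rw [hA, pow_succ]; have := Nat.one_le_two_pow (n := n - g); omega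
    have hB1 : 1 ≤ B := Nat.one_le_two_pow
    rw [hmd, ← hAB] at h2
    obtain ⟨A', hA'⟩ : ∃ A', A = A' + 1 := ⟨A - 1, by omega⟩
    obtain ⟨B', hB'⟩ : ∃ B', B = B' + 1 := ⟨B - 1, by omega⟩
    rw [hA', hB', Nat.add_sub_cancel, Nat.add_sub_cancel,
      show (A' + 1) * (B' + 1) = A' * B' + A' + B' + 1 by ring] at h2
    omega
  have heq : 2 ^ sh n r a + 2 ^ sh n r b = 2 ^ sh n r c + 2 ^ sh n r e := by
    obtain ⟨a1, a2⟩ := hbound _ hra
    obtain ⟨b1, b2⟩ := hbound _ hrb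
    obtain ⟨c1, c2⟩ := hbound _ hrc
    obtain ⟨e1, e2⟩ := hbound _ hre
    rcases le_total (2 ^ sh n r a + 2 ^ sh n r b) (2 ^ sh n r c + 2 ^ sh n r e) with hle | hle
    · have := Nat.eq_zero_of_dvd_of_lt ((Nat.modEq_iff_dvd' hle).mp hmod) (by omega)
      omega
    · have := Nat.eq_zero_of_dvd_of_lt ((Nat.modEq_iff_dvd' hle).mp hmod.symm) (by omega)
      omega
  have hlt : ∀ x, x + g ≤ n → x < n := fun x hx => by omega
  have key := two_pows hn (hlt _ hra) (hlt _ hrb) (hlt _ hrc) (hlt _ hre)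
    (show 2 ^ sh n r a + 2 ^ sh n r b ≡ 2 ^ sh n r c + 2 ^ sh n r e [MOD 2 ^ n - 1] by rw [heq])
  have hinj : ∀ x y, x < n → y < n → sh n r x = sh n r y → x = y := by
    intro x y hx hy hxy
    unfold sh at hxy
    split_ifs at hxy <;> omega
  rcases key with ⟨h1, h2⟩ | ⟨h1, h2⟩
  · exact Or.inl ⟨hinj a c ha hc h1, hinj b e hb he h2⟩
  · exact Or.inr ⟨hinj a e ha he h1, hinj b c hb hc h2⟩

theorem six_three_alternating : ∀ a < 6, ∀ b < 6, (2 ^ a + 2 ^ b) % 21 = (2 ^ 5 + 2 ^ 5) % 21 →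
    a = 5 ∧ b = 5 := by
  decide

set_option synthInstance.maxSize 2000 in
set_option maxRecDepth 100000 in
theorem six_three_unique : ∀ t < 21, Nat.gcd 21 t = 1 → ∀ i < 6, ∀ j < 6,
    (t * 2 ^ i + 2 ^ j) % 21 = 1 → ∀ i' < 6, ∀ j' < 6, (t * 2 ^ i' + 2 ^ j') % 21 = 1 →
    i = i' ∧ j = j' := by
  decide

variable {F : Type*} [Field F] [Fintype F] [CharP F 2]

theorem orderOf_pow_two_pow (hn : n ≠ 0) (hmd : m * d = 2 ^ n - 1) {μ : F} (hμ : orderOf μ = m)
    (i : ℕ) : orderOf (μ ^ 2 ^ i) = m := by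
  rw [Nat.Coprime.orderOf_pow, hμ]
  rw [hμ]
  refine Nat.Coprime.pow_right i (Nat.coprime_two_right.mpr ?_)
  have he : Even (2 ^ n) := (Nat.even_pow).mpr ⟨even_two, hn⟩
  have h2 : Odd (2 ^ n - 1) := Nat.Even.sub_odd Nat.one_le_two_pow he odd_one
  rw [← hmd] at h2
  exact (Nat.odd_mul.mp h2).1

theorem ne_zero_of_orderOf {μ : F} (hμ : orderOf μ = m) (hm : m ≠ 0) : μ ≠ 0 := fun h => by
  have h1 := pow_orderOf_eq_one μ
  rw [hμ, h, zero_pow hm] at h1
  exact zero_ne_one h1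

/-- A biadditive map equivariant with target weight equal to the second weight. -/
theorem bilinear_weight (hn : 2 ≤ n) (hcard : Fintype.card F = 2 ^ n) (hmd : m * d = 2 ^ n - 1)
    (hd : d ∣ n) (hm : 1 < m) (B : F → F → F)
    (hl : ∀ u u' v, B (u + u') v = B u v + B u' v) (hr : ∀ u v v', B u (v + v') = B u v + B u v')
    {μ ν : F} (hμ : orderOf μ = m) (hν : orderOf ν = m)
    (heq : ∀ u v, B (μ * u) (ν * v) = ν * B u v) :
    (∀ u v, B u v = 0) ∨
      ((∀ u v, u ≠ 0 → v ≠ 0 → B u v ≠ 0) ∧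
        ((∀ u, u ≠ 0 → ∃ t, t ≠ 0 ∧ B u t = t) →
          ∀ u t t', u ≠ 0 → t ≠ 0 → t' ≠ 0 → B u t = t → B u t' = t' → t = t')) := by
  classical
  obtain ⟨s, c, hB, hs⟩ := monomials hcard (by omega) B hl hr heq
  have hpos : 0 < n := by omega
  have hν0 : ν ≠ 0 := ne_zero_of_orderOf hν (by omega)
  have hμ1 : ∀ i, μ ^ 2 ^ i ≠ 1 := fun i h => by
    have h1 := orderOf_pow_two_pow (by omega) hmd hμ i
    rw [h, orderOf_one] at h1
    omega
  have hj0 : ∀ p ∈ s, (p.2 : ℕ) ≠ 0 := fun p hp hp2 => by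
    have h := (hs p hp).2
    rw [hp2, pow_zero, pow_one, mul_eq_right₀ hν0] at h
    exact hμ1 _ h
  have huniq : ∀ p ∈ s, ∀ q ∈ s, p = q := by
    intro p hp q hqs
    by_cases hex : n = 6 ∧ d = 3
    · obtain ⟨rfl, rfl⟩ := hex
      have hm21 : m = 21 := by norm_num at hmd; omega
      subst hm21
      have hprim : IsPrimitiveRoot ν 21 := hν ▸ IsPrimitiveRoot.orderOf ν
      obtain ⟨t, ht, htμ⟩ := hprim.eq_pow_of_pow_eq_one (ξ := μ) (by rw [← hμ, pow_orderOf_eq_one])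
      have hgcd : Nat.gcd 21 t = 1 := by
        have h2 := orderOf_pow' ν (n := t) (fun h0 => by
          rw [h0, pow_zero] at htμ; rw [← htμ, orderOf_one] at hμ; omega)
        rw [htμ, hμ, hν] at h2
        have h3 : Nat.gcd 21 t ∣ 21 := Nat.gcd_dvd_left _ _
        have h4 := Nat.div_mul_cancel h3
        rw [← h2] at h4
        omega
      have hexp : ∀ z ∈ s, (t * 2 ^ (z.1 : ℕ) + 2 ^ (z.2 : ℕ)) % 21 = 1 := by
        intro z hz
        have h1 := (hs z hz).2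
        rw [← htμ, ← pow_mul, ← pow_add] at h1
        have h2 := pow_eq_modEq hν0 (h1.trans (pow_one ν).symm)
        rw [hν] at h2
        exact h2
      obtain ⟨h1, h2⟩ := six_three_unique t ht hgcd p.1 p.1.2 p.2 p.2.2 (hexp p hp) q.1 q.1.2 q.2 q.2.2
        (hexp q hqs)
      exact Prod.ext (Fin.ext h1) (Fin.ext h2)
    obtain ⟨r, hrd⟩ : ∃ r, r = ((q.1 : ℕ) + n - p.1) % n := ⟨_, rfl⟩
    have hrn : r < n := hrd ▸ Nat.mod_lt _ hpos
    have hpd : ((p.1 : ℕ) + r) % n = (q.1 : ℕ) := by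
      rw [hrd, Nat.add_mod_mod, show (p.1 : ℕ) + ((q.1 : ℕ) + n - p.1) = (q.1 : ℕ) + n by
        have := p.1.2; omega, Nat.add_mod_right, Nat.mod_eq_of_lt q.1.2]
    -- raise the relation for `p` to the power `2 ^ r`
    have h1 := congrArg (· ^ 2 ^ r) (hs p hp).2
    simp only [mul_pow, ← pow_mul, ← pow_add] at h1
    rw [pow_two_pow_mod hcard μ ((p.1 : ℕ) + r), hpd, pow_two_pow_mod hcard ν ((p.2 : ℕ) + r)] at h1
    have h2 : ν ^ (2 ^ r + 2 ^ (q.2 : ℕ)) = ν ^ (2 ^ 0 + 2 ^ (((p.2 : ℕ) + r) % n)) := by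
      have h3 : μ ^ 2 ^ (q.1 : ℕ) = ν / ν ^ 2 ^ (q.2 : ℕ) := eq_div_of_mul_eq (pow_ne_zero _ hν0) (hs q hqs).2
      rw [h3] at h1
      rw [pow_add, pow_add, ← h1, pow_zero, pow_one]
      field_simp
    have h3 := pow_eq_modEq hν0 h2
    rw [hν] at h3
    rcases two_pows_modulus hn hmd hd hex hrn q.2.2 hpos (Nat.mod_lt _ hpos) h3 with
      ⟨hd0, hq⟩ | ⟨hdd, hq⟩
    · rw [hd0, Nat.add_zero, Nat.mod_eq_of_lt p.1.2] at hpd
      rw [hd0, Nat.add_zero, Nat.mod_eq_of_lt p.2.2] at hq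
      exact Prod.ext (Fin.ext hpd) (Fin.ext hq.symm)
    · exact absurd hq (hj0 q hqs)
  obtain hs0 | ⟨p, hp⟩ := s.eq_empty_or_nonempty
  · left
    intro u v
    rw [hB, hs0, Finset.sum_empty]
  right
  have hsp : s = {p} := Finset.eq_singleton_iff_unique_mem.mpr ⟨hp, fun q hq => huniq q hq p hp⟩
  have hBp : ∀ u v, B u v = c p * (u ^ 2 ^ (p.1 : ℕ) * v ^ 2 ^ (p.2 : ℕ)) := fun u v => by
    rw [hB, hsp, Finset.sum_singleton]
  have hcp : c p ≠ 0 := (hs p hp).1
  refine ⟨fun u v hu hv => ?_, fun hex u t t' hu ht ht' h h' => ?_⟩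
  · rw [hBp]
    exact mul_ne_zero hcp (mul_ne_zero (pow_ne_zero _ hu) (pow_ne_zero _ hv))
  · obtain ⟨M, hM⟩ : ∃ M, 2 ^ (p.2 : ℕ) = M + 1 := ⟨2 ^ (p.2 : ℕ) - 1, by
      have := Nat.one_le_two_pow (n := (p.2 : ℕ)); omega⟩
    have hM0 : M ≠ 0 := fun h0 => by
      rw [h0] at hM
      exact hj0 p hp (Nat.pow_right_injective le_rfl (hM.trans (pow_zero 2).symm))
    have hsol : ∀ v x : F, x ≠ 0 → B v x = x → c p * v ^ 2 ^ (p.1 : ℕ) * x ^ M = 1 :=
      fun v x hx hxe => by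
        rw [hBp, hM, pow_succ] at hxe
        refine mul_right_cancel₀ hx ?_
        rw [one_mul]
        calc c p * v ^ 2 ^ (p.1 : ℕ) * x ^ M * x = c p * (v ^ 2 ^ (p.1 : ℕ) * (x ^ M * x)) := by ring
          _ = x := hxe
    -- every element is an `M`-th power, so `M`-th roots are unique
    have hsurj : Function.Surjective fun x : F => x ^ M := by
      intro w
      rcases eq_or_ne w 0 with rfl | hw
      · exact ⟨0, zero_pow hM0⟩
      obtain ⟨v, hv⟩ := (Finite.injective_iff_surjective.mp (iterateFrobenius F 2 (p.1 : ℕ)).injective)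
        (c p * w)⁻¹
      rw [iterateFrobenius_def] at hv
      have hv0 : v ≠ 0 := fun h0 => by
        rw [h0, zero_pow (pow_ne_zero _ two_ne_zero)] at hv
        exact inv_ne_zero (mul_ne_zero hcp hw) hv.symm
      obtain ⟨x, hx, hxe⟩ := hex v hv0
      refine ⟨x, ?_⟩
      have h1 := hsol v x hx hxe
      rw [hv, mul_inv, ← mul_assoc, mul_inv_cancel₀ hcp, one_mul, inv_mul_eq_one₀ hw] at h1
      exact h1.symm
    refine (Finite.injective_iff_surjective.mpr hsurj) ?_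
    exact mul_left_cancel₀ (mul_ne_zero hcp (pow_ne_zero _ hu)) ((hsol u t ht h).trans (hsol u t' ht' h').symm)

/-- An alternating equivariant biadditive map with equal weights vanishes. -/
theorem alternating_weight (hn : 2 ≤ n) (hcard : Fintype.card F = 2 ^ n) (hmd : m * d = 2 ^ n - 1)
    (hd : d ∣ n) (hm : 1 < m) (C : F → F → F)
    (hl : ∀ u u' v, C (u + u') v = C u v + C u' v) (hr : ∀ u v v', C u (v + v') = C u v + C u v')
    (halt : ∀ u, C u u = 0) {μ : F} (hμ : orderOf μ = m)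
    (heq : ∀ u v, C (μ * u) (μ * v) = μ * C u v) : ∀ u v, C u v = 0 := by
  classical
  obtain ⟨s, c, hC, hs⟩ := monomials hcard (by omega) C hl hr heq
  have hμ0 : μ ≠ 0 := ne_zero_of_orderOf hμ (by omega)
  have hpair : ∀ p ∈ s, (p.1 : ℕ) = n - 1 ∧ (p.2 : ℕ) = n - 1 := by
    intro p hp
    have h2 : μ ^ (2 ^ (p.1 : ℕ) + 2 ^ (p.2 : ℕ)) = μ ^ (2 ^ (n - 1) + 2 ^ (n - 1)) := by
      rw [← two_mul (2 ^ (n - 1)), ← pow_succ', show n - 1 + 1 = n by omega, pow_add, (hs p hp).2,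
        ← hcard, FiniteField.pow_card]
    have h3 := pow_eq_modEq hμ0 h2
    rw [hμ] at h3
    by_cases hex : n = 6 ∧ d = 3
    · obtain ⟨rfl, rfl⟩ := hex
      have hm21 : m = 21 := by norm_num at hmd; omega
      subst hm21
      exact six_three_alternating _ p.1.2 _ p.2.2 h3
    rcases two_pows_modulus hn hmd hd hex p.1.2 p.2.2 (by omega) (by omega) h3 with ⟨h4, h5⟩ | ⟨h4, h5⟩ <;>
      exact ⟨h4, h5⟩
  obtain hs0 | ⟨p, hp⟩ := s.eq_empty_or_nonempty
  · intro u v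
    rw [hC, hs0, Finset.sum_empty]
  have hsp : s = {p} := Finset.eq_singleton_iff_unique_mem.mpr ⟨hp, fun q hq =>
    Prod.ext (Fin.ext ((hpair q hq).1.trans (hpair p hp).1.symm))
      (Fin.ext ((hpair q hq).2.trans (hpair p hp).2.symm))⟩
  have := halt 1
  rw [hC, hsp, Finset.sum_singleton, one_pow, one_pow, mul_one, mul_one] at this
  exact absurd this (hs p hp).1

end CfsgLib.PGroups.Suzuki.Semi
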