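import Mathlib
import Cfsg.Agent.S3773
import Cfsg.Agent.Lib.PGroups.Basic
import Cfsg.Agent.Lib.PGroups.ClassTwo
import Cfsg.Agent.Lib.PGroups.Suzuki.Higman
import Cfsg.Agent.Lib.PGroups.Suzuki.Semi.Weights
import Cfsg.Agent.Lib.PGroups.Suzuki.Semi.Chart

/-!
# Higman's theorem for a group of automorphisms of small index in a cyclic regular group

A nonabelian 2-group with at least three involutions, all central, and an automorphism which acts on
them as a semiregular group of order `m`, where `m * d = 2 ^ n - 1` and `d` divides `n`, has all its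
squares among the involutions and `1`.
-/

set_option autoImplicit false
set_option linter.all false

open scoped commutatorElement

namespace CfsgLib.PGroups.Suzuki.Semi

open Subgroup CfsgLib.PGroups.Suzuki

universe u

/-- The hypothesis: an automorphism which acts on the (at least three) involutions as a semiregular
group of order `m`, where `m * d = 2 ^ n - 1` with `d` dividing `n`. -/
structure Data (G : Type u) [Group G] (n : ℕ) where
  ξ : MulAut G
  m : ℕ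
  d : ℕ
  two_le : 2 ≤ n
  mul_eq : m * d = 2 ^ n - 1
  dvd : d ∣ n
  isPGroup : IsPGroup 2 G
  central : ∀ x : G, x ^ 2 = 1 → x ∈ center G
  card_inv : Nat.card {x : G // x ^ 2 = 1} = 2 ^ n
  order : ∀ x : G, x ^ 2 = 1 → (ξ ^ m) x = x
  fpf : ∀ (i : ℕ) (x : G), x ≠ 1 → (ξ ^ i) x = x → m ∣ i

variable {G : Type u} [Group G] [Finite G] {n : ℕ} (D : Data G n)

namespace Data

include D

/-- Invariance under the automorphism. -/
abbrev Inv (H : Subgroup G) : Prop := ∀ x ∈ H, D.ξ x ∈ H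

/-- The involutions and `1`. -/
def ω : Subgroup G where
  carrier := {x | x ^ 2 = 1}
  one_mem' := one_pow 2
  mul_mem' := fun {a b} (ha : a ^ 2 = 1) (hb : b ^ 2 = 1) => show (a * b) ^ 2 = 1 by
    rw [(show Commute a b from mem_center_iff.mp (D.central b hb) a).mul_pow, ha, hb, mul_one]
  inv_mem' := fun {a} (h : a ^ 2 = 1) => show a⁻¹ ^ 2 = 1 by rw [inv_pow, h, inv_one]

theorem mem_ω {x : G} : x ∈ D.ω ↔ x ^ 2 = 1 := Iff.rfl

theorem ω_le_center : D.ω ≤ center G := fun x hx => D.central x hx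

theorem card_ω : Nat.card D.ω = 2 ^ n := D.card_inv

theorem ω_inv : D.Inv D.ω := fun x hx => by
  rw [mem_ω] at hx ⊢
  rw [← map_pow, hx, map_one]

theorem ω_normal : D.ω.Normal :=
  ⟨fun x hx g => by rwa [mem_center_iff.mp (D.ω_le_center hx) g, mul_inv_cancel_right]⟩

theorem four_le : 4 ≤ 2 ^ n := le_trans (by norm_num) (Nat.pow_le_pow_right two_pos D.two_le)

theorem pow_inv {H : Subgroup G} (hH : D.Inv H) : ∀ (i : ℕ), ∀ x ∈ H, (D.ξ ^ i) x ∈ H := by
  intro i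
  induction i with
  | zero => intro x hx; simpa using hx
  | succ i ih => intro x hx; rw [pow_succ']; exact hH _ (ih x hx)

theorem exists_involution {H : Subgroup G} (hH : H ≠ ⊥) : ∃ z ∈ H, z ≠ 1 ∧ z ^ 2 = 1 := by
  have hd : 2 ∣ Nat.card H := by
    rcases (D.isPGroup.to_subgroup H).card_eq_or_dvd with h | h
    · exact absurd (card_eq_one.mp h) hH
    · exact h
  obtain ⟨z, hz⟩ := exists_prime_orderOf_dvd_card' 2 hd
  rw [← Subgroup.orderOf_coe] at hz
  refine ⟨z, z.2, fun h => ?_, by rw [← hz, pow_orderOf_eq_one]⟩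
  rw [h, orderOf_one] at hz
  omega

theorem dvd_q : D.m ∣ 2 ^ n - 1 := ⟨D.d, D.mul_eq.symm⟩

/-- The order of `2` modulo `m` is `n`. -/
theorem step (s : ℕ) (h : D.m ∣ 2 ^ s - 1) : n ∣ s := by
  have h1 : D.m ∣ 2 ^ Nat.gcd s n - 1 := by
    rw [← Nat.pow_sub_one_gcd_pow_sub_one]
    exact Nat.dvd_gcd h D.dvd_q
  have hge : Nat.gcd s n ∣ n := Nat.gcd_dvd_right s n
  set e := Nat.gcd s n with he
  have hn := D.two_le
  suffices e = n from this ▸ Nat.gcd_dvd_left s n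
  by_contra hne
  obtain ⟨c, hc⟩ := hge
  have hc2 : 2 ≤ c := by
    rcases (show c = 0 ∨ c = 1 ∨ 2 ≤ c by omega) with h0 | h0 | h0
    · rw [h0, mul_zero] at hc; omega
    · rw [h0, mul_one] at hc; exact absurd hc.symm hne
    · exact h0
  have he2 : 2 * e ≤ n := by rw [hc, mul_comm 2]; exact Nat.mul_le_mul_left e hc2
  have hepos : 1 ≤ e := Nat.pos_of_ne_zero fun h0 => by rw [h0, zero_mul] at hc; omega
  have h4 : 4 * 1 ≤ 2 ^ e * 2 ^ e := by
    calc 4 * 1 = 2 * 2 := rfl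
      _ ≤ 2 ^ e * 2 ^ e := Nat.mul_le_mul (Nat.le_self_pow (by omega) 2) (Nat.le_self_pow (by omega) 2)
  obtain ⟨f, hf⟩ : ∃ f, n = e + f := ⟨n - e, by omega⟩
  have hf2 : n ≤ 2 ^ f := by
    have key : ∀ k : ℕ, 1 ≤ k → 2 * k ≤ 2 ^ k := by
      intro k hk
      induction k, hk using Nat.le_induction with
      | base => norm_num
      | succ k hk ih => rw [pow_succ]; omega
    have := key f (by omega)
    omega
  have hE : 2 ≤ 2 ^ e := Nat.le_self_pow (by omega) 2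
  have h2 : 2 ^ n = 2 ^ e * 2 ^ f := by rw [hf, pow_add]
  have hd : D.d ≤ n := Nat.le_of_dvd (by omega) D.dvd
  have h3 : D.m * D.d ≤ (2 ^ e - 1) * 2 ^ f :=
    Nat.mul_le_mul (Nat.le_of_dvd (by omega) h1) (hd.trans hf2)
  rw [D.mul_eq, Nat.sub_mul, one_mul, ← h2] at h3
  have hF : 2 ≤ 2 ^ f := Nat.le_self_pow (by omega) 2
  have h5 := Nat.mul_le_mul hE hF
  rw [← h2] at h5
  omega

theorem one_lt : 1 < D.m := by
  have hn := D.two_le
  rcases (show D.m = 0 ∨ D.m = 1 ∨ 1 < D.m by omega) with h | h | h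
  · have := D.mul_eq
    rw [h, zero_mul] at this
    have := D.four_le
    omega
  · have := Nat.le_of_dvd one_pos (D.step 1 (by rw [h]; exact one_dvd _))
    omega
  · exact h

/-- Restriction of the automorphism. -/
noncomputable def res {H : Subgroup G} (hH : D.Inv H) : MulAut H :=
  MulEquiv.ofBijective (MonoidHom.mk' (fun x : H => (⟨D.ξ x, hH x x.2⟩ : H))
      fun x y => Subtype.ext (map_mul D.ξ (x : G) y))
    (Finite.injective_iff_bijective.mp fun x y h =>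
      Subtype.ext (D.ξ.injective (congrArg Subtype.val h :)))

theorem res_pow {H : Subgroup G} (hH : D.Inv H) (i : ℕ) (x : H) :
    (((D.res hH) ^ i) x : G) = (D.ξ ^ i) (x : G) := by
  induction i generalizing x with
  | zero => rfl
  | succ i ih =>
    rw [pow_succ, pow_succ, MulAut.mul_apply, MulAut.mul_apply, ih]
    rfl

theorem dvd_card_sub_one {H : Subgroup G} (hH : D.Inv H) : D.m ∣ Nat.card H - 1 := by
  classical
  haveI : Fintype H := Fintype.ofFinite H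
  let K : Subgroup (MulAut H) := Subgroup.zpowers (D.res hH)
  letI : MulAction K {x : H // x ≠ 1} :=
    { smul := fun k x => ⟨(k : MulAut H) x, fun h => x.2 ((MulEquiv.map_eq_one_iff _).mp h)⟩
      one_smul := fun x => rfl
      mul_smul := fun k l x => rfl }
  haveI : Fintype {x : H // x ≠ 1} := Fintype.ofFinite _
  haveI : Fintype K := Fintype.ofFinite _
  have hc : Nat.card {x : H // x ≠ 1} = Nat.card H - 1 := by
    rw [Nat.card_eq_fintype_card, Nat.card_eq_fintype_card, Fintype.card_subtype_compl,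
      Fintype.card_subtype_eq]
  rw [← hc, Nat.card_congr (MulAction.selfEquivSigmaOrbits K {x : H // x ≠ 1}), Nat.card_sigma]
  refine Finset.dvd_sum fun o _ => ?_
  set x := Quotient.out o
  let k : K := ⟨D.res hH, Subgroup.mem_zpowers _⟩
  -- the orbit of `x` is the orbit of the single generator
  have horb : Nat.card (MulAction.orbit K x) = (MulAction.stabilizer K x).index :=
    (MulAction.index_stabilizer K x).symm
  show D.m ∣ Nat.card (MulAction.orbit K x)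
  rw [horb]
  set N := (MulAction.stabilizer K x).index with hN
  haveI : IsCyclic K := Subgroup.isCyclic_zpowers _
  letI : CommGroup K := IsCyclic.commGroup
  have hmem : k ^ N ∈ MulAction.stabilizer K x := Subgroup.pow_index_mem _ k
  have h1 : ((k ^ N : K) : MulAut H) (x : H) = (x : H) :=
    congrArg Subtype.val (MulAction.mem_stabilizer_iff.mp hmem)
  rw [Subgroup.coe_pow] at h1
  exact D.fpf N ((x : H) : G) (fun h => x.2 (Subtype.ext h))
    ((D.res_pow hH N x).symm.trans (congrArg Subtype.val h1))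

theorem card_pow {H : Subgroup G} (hH : D.Inv H) : ∃ j, Nat.card H = (2 ^ n) ^ j := by
  haveI := Fact.mk Nat.prime_two
  obtain ⟨s, hs⟩ := IsPGroup.iff_card.mp (D.isPGroup.to_subgroup H)
  have h := D.dvd_card_sub_one hH
  rw [hs] at h
  obtain ⟨j, hj⟩ := D.step s h
  exact ⟨j, by rw [hs, hj, pow_mul]⟩

theorem ω_eq_of_le {H : Subgroup G} (hH : D.Inv H) (hne : H ≠ ⊥) (hle : H ≤ D.ω) : H = D.ω := by
  obtain ⟨j, hj⟩ := D.card_pow hH
  refine eq_of_le_of_card_ge hle ?_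
  rw [D.card_ω, hj]
  refine Nat.le_self_pow (fun h0 => hne (card_eq_one.mp ?_)) _
  rw [hj, h0, pow_zero]

theorem ω_le {H : Subgroup G} (hH : D.Inv H) (hne : H ≠ ⊥) : D.ω ≤ H := by
  obtain ⟨z, hzH, hz1, hz⟩ := D.exists_involution hne
  have h := D.ω_eq_of_le (H := H ⊓ D.ω) (fun x hx => ⟨hH x hx.1, D.ω_inv x hx.2⟩)
    (fun h => hz1 (mem_bot.mp (h.le ⟨hzH, hz⟩))) inf_le_right
  exact h.ge.trans inf_le_left

/-- An equivariant multiplicative map into the involutions is trivial or surjective. -/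
theorem image_eq {H : Subgroup G} (hH : D.Inv H) (f : G → G)
    (hf : ∀ x ∈ H, ∀ y ∈ H, f (x * y) = f x * f y) (hfω : ∀ x ∈ H, f x ∈ D.ω)
    (heq : ∀ x ∈ H, f (D.ξ x) = D.ξ (f x)) {b : G} (hb : b ∈ H) (hb1 : f b ≠ 1)
    {z : G} (hz : z ∈ D.ω) : ∃ c ∈ H, f c = z := by
  have hf1 : f 1 = 1 := by
    have h := hf 1 H.one_mem 1 H.one_mem
    rw [one_mul] at h
    exact mul_eq_left.mp h.symm
  let S : Subgroup G :=
    { carrier := {y | ∃ x ∈ H, f x = y}
      one_mem' := ⟨1, H.one_mem, hf1⟩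
      mul_mem' := fun {y y'} hy hy' => by
        obtain ⟨x, hx, rfl⟩ := hy
        obtain ⟨x', hx', rfl⟩ := hy'
        exact ⟨x * x', H.mul_mem hx hx', hf x hx x' hx'⟩
      inv_mem' := fun {y} hy => by
        obtain ⟨x, hx, rfl⟩ := hy
        refine ⟨x⁻¹, H.inv_mem hx, eq_inv_of_mul_eq_one_left ?_⟩
        rw [← hf _ (H.inv_mem hx) x hx, inv_mul_cancel, hf1] }
  have hS : D.Inv S := by
    rintro y ⟨x, hx, rfl⟩
    exact ⟨D.ξ x, hH x hx, heq x hx⟩
  have hne : S ≠ ⊥ := fun h => hb1 (mem_bot.mp (h.le (⟨b, hb, rfl⟩ : f b ∈ S)))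
  exact (D.ω_eq_of_le hS hne (by rintro y ⟨x, hx, rfl⟩; exact hfω x hx)).ge hz

/-- The induced data on an invariant subgroup. -/
noncomputable def restrict {H : Subgroup G} (hH : D.Inv H) (hne : H ≠ ⊥) : Data H n where
  ξ := D.res hH
  m := D.m
  d := D.d
  two_le := D.two_le
  mul_eq := D.mul_eq
  dvd := D.dvd
  isPGroup := D.isPGroup.to_subgroup H
  central := fun x hx => mem_center_iff.mpr fun y => Subtype.ext
    (mem_center_iff.mp (D.central x (congrArg Subtype.val hx)) y)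
  card_inv := by
    rw [← D.card_inv]
    exact Nat.card_congr
      { toFun := fun x => ⟨((x : H) : G), congrArg Subtype.val x.2⟩
        invFun := fun x => ⟨⟨(x : G), D.ω_le hH hne x.2⟩, Subtype.ext x.2⟩
        left_inv := fun x => rfl
        right_inv := fun x => rfl }
  order := fun x hx => Subtype.ext (by rw [D.res_pow hH]; exact D.order _ (congrArg Subtype.val hx))
  fpf := fun i x hx h => D.fpf i x (fun h1 => hx (Subtype.ext h1))
    (by rw [← D.res_pow hH, h])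

theorem card_eq_of_between {L H M : Subgroup G} (hL : D.Inv L) (hH : D.Inv H) (hLH : L ≤ H)
    (hHM : H ≤ M) (hcard : Nat.card M = 2 ^ n * Nat.card L) : H = L ∨ H = M := by
  obtain ⟨a, ha⟩ := D.card_pow hL
  obtain ⟨b, hb⟩ := D.card_pow hH
  rw [ha, ← pow_succ'] at hcard
  have h1 := card_le_of_le hLH
  have h2 := card_le_of_le hHM
  rw [ha, hb] at h1
  rw [hb, hcard] at h2
  have h4 : 1 < 2 ^ n := lt_of_lt_of_le (by norm_num) D.four_le
  have h1' := (Nat.pow_le_pow_iff_right h4).mp h1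
  have h2' := (Nat.pow_le_pow_iff_right h4).mp h2
  rcases (show b = a ∨ b = a + 1 by omega) with h | h
  · exact Or.inl (eq_of_le_of_card_ge hLH (by rw [ha, hb, h])).symm
  · exact Or.inr (eq_of_le_of_card_ge hHM (by rw [hcard, hb, h]))

theorem sup_inv {H K : Subgroup G} (hH : D.Inv H) (hK : D.Inv K) : D.Inv (H ⊔ K) := fun x hx => by
  have hle : (H ⊔ K).map D.ξ.toMonoidHom ≤ H ⊔ K := by
    rw [Subgroup.map_sup]
    refine sup_le_sup ?_ ?_
    · rintro _ ⟨y, hy, rfl⟩; exact hH y hy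
    · rintro _ ⟨y, hy, rfl⟩; exact hK y hy
  exact hle (mem_map_of_mem _ hx)

theorem top_inv : D.Inv ⊤ := fun x _ => mem_top _

theorem comm_inv {H K : Subgroup G} (hH : D.Inv H) (hK : D.Inv K) : D.Inv ⁅H, K⁆ := fun x hx => by
  have hle : (⁅H, K⁆).map D.ξ.toMonoidHom ≤ ⁅H, K⁆ := by
    rw [Subgroup.map_commutator]
    refine Subgroup.commutator_mono ?_ ?_
    · rintro _ ⟨y, hy, rfl⟩; exact hH y hy
    · rintro _ ⟨y, hy, rfl⟩; exact hK y hy
  exact hle (mem_map_of_mem _ hx)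

theorem char_inv (H : Subgroup G) [H.Characteristic] : D.Inv H := fun x hx => by
  have h : H.map D.ξ.toMonoidHom = H := Subgroup.characteristic_iff_map_eq.mp ‹H.Characteristic› D.ξ
  exact h.le (mem_map_of_mem _ hx)

theorem centralizer_inv {H : Subgroup G} (hH : D.Inv H) : D.Inv (centralizer (H : Set G)) :=
  fun x hx => mem_centralizer_iff.mpr fun y hy => by
    obtain ⟨y', hy'⟩ : ∃ y', (⟨y, hy⟩ : H) = D.res hH y' :=
      ⟨(D.res hH).symm ⟨y, hy⟩, ((D.res hH).apply_symm_apply _).symm⟩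
    have : y = D.ξ (y' : G) := congrArg Subtype.val hy'
    rw [this, ← map_mul, ← map_mul, mem_centralizer_iff.mp hx _ y'.2]

theorem descent {H : Subgroup G} (h : H ≤ ⁅H, (⊤ : Subgroup G)⁆) : H = ⊥ := by
  haveI := Fact.mk Nat.prime_two
  haveI := D.isPGroup.isNilpotent
  obtain ⟨N, hN⟩ := Subgroup.nilpotent_iff_lowerCentralSeries.mp ‹Group.IsNilpotent G›
  have : ∀ k, H ≤ (⊤ : Subgroup G).lowerCentralSeries k := by
    intro k
    induction k with
    | zero => exact le_top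
    | succ k ih => exact h.trans (Subgroup.commutator_mono ih le_rfl)
  exact le_bot_iff.mp (hN ▸ this N)

theorem comm_le {L H : Subgroup G} (hLn : L.Normal) (hHn : H.Normal) (hL : D.Inv L) (hH : D.Inv H)
    (hLH : L ≤ H) (hcard : Nat.card H = 2 ^ n * Nat.card L) : ⁅H, (⊤ : Subgroup G)⁆ ≤ L := by
  haveI := hHn
  haveI := hLn
  rcases D.card_eq_of_between hL (D.sup_inv hL (D.comm_inv hH D.top_inv)) le_sup_left
    (sup_le hLH (commutator_le_left H ⊤)) hcard with h | h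
  · exact le_sup_right.trans h.le
  · exfalso
    haveI := Fact.mk Nat.prime_two
    haveI := (D.isPGroup.to_quotient L).isNilpotent
    set π := QuotientGroup.mk' L
    have h1 : H.map π ≤ ⁅H.map π, (⊤ : Subgroup (G ⧸ L))⁆ := by
      conv_lhs => rw [← h]
      rw [Subgroup.map_sup, Subgroup.map_commutator,
        (L.map_eq_bot_iff).2 (QuotientGroup.ker_mk' L).ge, bot_sup_eq,
        Subgroup.map_top_of_surjective π (QuotientGroup.mk'_surjective L)]
    obtain ⟨N, hN⟩ := Subgroup.nilpotent_iff_lowerCentralSeries.mp ‹Group.IsNilpotent (G ⧸ L)›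
    have h2 : ∀ k, H.map π ≤ (⊤ : Subgroup (G ⧸ L)).lowerCentralSeries k := by
      intro k
      induction k with
      | zero => exact le_top
      | succ k ih => exact h1.trans (Subgroup.commutator_mono ih le_rfl)
    have h3 : H ≤ L := fun x hx => (QuotientGroup.eq_one_iff x).mp
      (mem_bot.mp (hN ▸ h2 N (mem_map_of_mem π hx)))
    have h4 := card_le_of_le h3
    have h5 := Nat.mul_le_mul_right (Nat.card L) D.four_le
    have h6 : 0 < Nat.card L := Nat.card_pos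
    omega

/-- A nonabelian group whose squares are involutions has the involutions as its centre. -/
theorem center_le (hsq : ∀ x : G, x ^ 2 ∈ D.ω) (hna : ¬ IsMulCommutative G) : center G ≤ D.ω := by
  intro c hc
  by_contra hcω
  refine hna ⟨⟨fun s t => ?_⟩⟩
  have hs : ∀ s : G, s ∈ center G := by
    intro s
    obtain ⟨b, hb, hbs⟩ := D.image_eq (D.char_inv (center G)) (fun x => x ^ 2)
      (fun x hx y _ => (show Commute x y from (mem_center_iff.mp hx y).symm).mul_pow 2)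
      (fun x _ => hsq x) (fun x _ => (map_pow D.ξ x 2).symm) hc (fun h => hcω h) (hsq s)
    have h1 : (s * b⁻¹) ^ 2 = 1 := by
      rw [Commute.mul_pow (mem_center_iff.mp (inv_mem hb) s : Commute s b⁻¹), inv_pow, hbs,
        mul_inv_cancel]
    rw [show s = s * b⁻¹ * b by group]
    exact mul_mem (D.central _ h1) hb
  exact (mem_center_iff.mp (hs t) s)

theorem commutator_mem_of_sq (hsq : ∀ x : G, x ^ 2 ∈ D.ω) (x y : G) : ⁅x, y⁆ ∈ D.ω := by
  haveI := D.ω_normal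
  refine (QuotientGroup.eq_one_iff _).mp ?_
  show QuotientGroup.mk' D.ω ⁅x, y⁆ = 1
  rw [map_commutatorElement, commutatorElement_eq_one_iff_commute]
  have he : ∀ q : G ⧸ D.ω, q⁻¹ = q := fun q => by
    obtain ⟨g, rfl⟩ := QuotientGroup.mk'_surjective D.ω q
    refine inv_eq_of_mul_eq_one_right ?_
    rw [← map_mul, ← pow_two]
    exact (QuotientGroup.eq_one_iff _).mpr (hsq g)
  set a := QuotientGroup.mk' D.ω x
  set b := QuotientGroup.mk' D.ω y
  show a * b = b * a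
  calc a * b = (a * b)⁻¹ := (he _).symm
    _ = b * a := by rw [mul_inv_rev, he, he]

theorem card_le_cube (hsq : ∀ x : G, x ^ 2 ∈ D.ω) : Nat.card G ≤ (2 ^ n) ^ 3 := by
  rw [← D.card_inv]
  refine (Cfsg.Agent.S3773.result D.isPGroup ?_ (fun x => ?_) fun x y hx hy => D.ω.mul_mem hx hy).1
  · rw [Subgroup.lowerCentralSeries_succ, eq_bot_iff, commutator_le]
    intro x hx y _
    have hxc : x ∈ center G := by
      refine D.ω_le_center ?_
      refine (?_ : (⊤ : Subgroup G).lowerCentralSeries 1 ≤ D.ω) hx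
      rw [Subgroup.lowerCentralSeries_succ, commutator_le]
      exact fun a _ b _ => D.commutator_mem_of_sq hsq a b
    rw [mem_bot, commutatorElement_eq_one_iff_commute]
    exact (mem_center_iff.mp hxc y).symm
  · rw [show 4 = 2 * 2 from rfl, pow_mul]
    exact hsq x

end Data

/-- Coordinates on a section. -/
structure Coord (D : Data G n) (M : Subgroup G) (F : Type) [Field F] where
  e : G → F
  μ : F
  order : orderOf μ = D.m
  mul : ∀ x ∈ M, ∀ y ∈ M, e (x * y) = e x + e y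
  surj : ∀ u, ∃ x ∈ M, e x = u
  equiv : ∀ x ∈ M, e (D.ξ x) = μ * e x

variable {D}

theorem Coord.map_one {F : Type} [Field F] {M : Subgroup G} (χ : Coord D M F) : χ.e 1 = 0 := by
  have := χ.mul 1 M.one_mem 1 M.one_mem
  rw [one_mul] at this
  simpa using this

theorem exists_coord {F : Type} [Field F] [Fintype F] (hF : Fintype.card F = 2 ^ n) {L M : Subgroup G}
    (hLn : L.Normal) (hL : D.Inv L) (hM : D.Inv M) (hlt : L < M) (hsq : ∀ x ∈ M, x ^ 2 ∈ L)
    (hirr : ∀ H : Subgroup G, D.Inv H → L ≤ H → H ≤ M → H = L ∨ H = M)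
    (hord : ∀ x ∈ M, x⁻¹ * (D.ξ ^ D.m) x ∈ L) :
    ∃ χ : Coord D M F, ∀ x ∈ M, (χ.e x = 0 ↔ x ∈ L) := by
  classical
  haveI := hLn
  set L' := L.subgroupOf M with hL'
  have hmap : L'.map (D.res hM : M →* M) = L' := by
    refine eq_of_le_of_card_ge ?_
      (Subgroup.card_map_of_injective (f := (D.res hM : M →* M)) (D.res hM).injective).ge
    rintro _ ⟨x, hx, rfl⟩
    exact hL _ hx
  set f : MulAut (M ⧸ L') := QuotientGroup.congr L' L' (D.res hM) hmap with hf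
  have hfmk : ∀ (x : M) (i : ℕ),
      (f ^ i) (QuotientGroup.mk' L' x) = QuotientGroup.mk' L' ((D.res hM ^ i) x) := by
    intro x i
    induction i generalizing x with
    | zero => rfl
    | succ i ih =>
      rw [pow_succ, pow_succ, MulAut.mul_apply, MulAut.mul_apply, ← ih]
      rfl
  haveI : Nontrivial (M ⧸ L') := by
    obtain ⟨x, hxM, hxL⟩ := SetLike.exists_of_lt hlt
    exact ⟨⟨QuotientGroup.mk' L' ⟨x, hxM⟩, 1, fun h => hxL ((QuotientGroup.eq_one_iff (⟨x, hxM⟩ : M)).mp h)⟩⟩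
  obtain ⟨e, μ, hμ, hbij, hadd, heq⟩ := Semi.exists_chart (Q := M ⧸ L') D.two_le hF
    (fun q => by
      obtain ⟨x, rfl⟩ := QuotientGroup.mk'_surjective L' q
      rw [← map_mul, ← pow_two]
      exact (QuotientGroup.eq_one_iff _).mpr (hsq x x.2))
    D.one_lt D.dvd_q D.step
    f (MulEquiv.ext fun q => by
      obtain ⟨x, rfl⟩ := QuotientGroup.mk'_surjective L' q
      rw [hfmk]
      refine ((QuotientGroup.eq).mpr ?_).symm
      show ((x⁻¹ * (D.res hM ^ D.m) x : M) : G) ∈ L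
      rw [Subgroup.coe_mul, Subgroup.coe_inv, D.res_pow hM]
      exact hord x x.2)
    (fun i q hq hfix => by
      obtain ⟨x, rfl⟩ := QuotientGroup.mk'_surjective L' q
      rw [hfmk] at hfix
      have hxL : (x : G) ∉ L := fun h => hq ((QuotientGroup.eq_one_iff x).mpr h)
      have hl : (x : G)⁻¹ * (D.ξ ^ i) (x : G) ∈ L := by
        have := (QuotientGroup.eq).mp hfix.symm
        have h2 : ((x⁻¹ * (D.res hM ^ i) x : M) : G) ∈ L := this
        rwa [Subgroup.coe_mul, Subgroup.coe_inv, D.res_pow hM] at h2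
      by_contra hndvd
      let ψ : L → L := fun y => ⟨(y : G)⁻¹ * (D.ξ ^ i) (y : G),
        L.mul_mem (L.inv_mem y.2) (D.pow_inv hL i y y.2)⟩
      have hψ : Function.Injective ψ := by
        intro y z h
        have h1 : (y : G)⁻¹ * (D.ξ ^ i) (y : G) = (z : G)⁻¹ * (D.ξ ^ i) (z : G) := congrArg Subtype.val h
        by_contra hne
        refine hndvd (D.fpf i ((z : G) * (y : G)⁻¹) (fun h2 => hne (Subtype.ext (mul_inv_eq_one.mp h2).symm)) ?_)
        rw [map_mul, map_inv, ← eq_inv_mul_iff_mul_eq.mp h1.symm]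
        group
      obtain ⟨y, hy⟩ := (Finite.injective_iff_surjective.mp hψ) ⟨_, hl⟩
      have h1 : (y : G)⁻¹ * (D.ξ ^ i) (y : G) = (x : G)⁻¹ * (D.ξ ^ i) (x : G) := congrArg Subtype.val hy
      refine hndvd (D.fpf i ((x : G) * (y : G)⁻¹) (fun h2 => hxL ((mul_inv_eq_one.mp h2) ▸ y.2)) ?_)
      rw [map_mul, map_inv, ← eq_inv_mul_iff_mul_eq.mp h1.symm]
      group)
    (fun H hH => by
      set K : Subgroup G := (H.comap (QuotientGroup.mk' L')).map M.subtype with hK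
      have hKinv : D.Inv K := by
        rintro _ ⟨x, hx, rfl⟩
        refine ⟨D.res hM x, ?_, rfl⟩
        have h1 := hH _ hx
        have h2 := hfmk x 1
        rw [pow_one, pow_one] at h2
        rw [h2] at h1
        exact h1
      have hLK : L ≤ K := fun x hx => ⟨⟨x, hlt.le hx⟩, by
        show QuotientGroup.mk' L' ⟨x, hlt.le hx⟩ ∈ H
        rw [show QuotientGroup.mk' L' ⟨x, hlt.le hx⟩ = 1 from (QuotientGroup.eq_one_iff _).mpr hx]
        exact one_mem H, rfl⟩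
      rcases hirr K hKinv hLK (map_subtype_le _) with h | h
      · left
        rw [eq_bot_iff]
        intro q hq
        obtain ⟨x, rfl⟩ := QuotientGroup.mk'_surjective L' q
        exact mem_bot.mpr ((QuotientGroup.eq_one_iff x).mpr (h.le ⟨x, hq, rfl⟩ : (x : G) ∈ L))
      · right
        rw [eq_top_iff]
        intro q _
        obtain ⟨x, rfl⟩ := QuotientGroup.mk'_surjective L' q
        obtain ⟨y, hy, hyx⟩ := h.ge x.2
        exact (Subtype.ext hyx : y = x) ▸ hy)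
  let ε : G → F := fun x => if hx : x ∈ M then e (QuotientGroup.mk' L' ⟨x, hx⟩) else 0
  have he1 : e 1 = 0 := by
    have h := hadd 1 1
    rw [mul_one] at h
    simpa using h
  refine ⟨⟨ε, μ, hμ, fun x hx y hy => ?_, fun v => ?_, fun x hx => ?_⟩, fun x hx => ?_⟩
  · simp only [ε, dif_pos hx, dif_pos hy, dif_pos (M.mul_mem hx hy)]
    rw [← hadd, ← map_mul]
    rfl
  · obtain ⟨q, hq⟩ := hbij.2 v
    obtain ⟨x, rfl⟩ := QuotientGroup.mk'_surjective L' q
    exact ⟨x, x.2, by simp only [ε, dif_pos x.2]; exact hq⟩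
  · simp only [ε, dif_pos hx, dif_pos (hM x hx)]
    rw [← heq]
    refine congrArg e ?_
    have h2 := hfmk ⟨x, hx⟩ 1
    rw [pow_one, pow_one] at h2
    rw [h2]
    rfl
  · simp only [ε, dif_pos hx]
    constructor
    · intro h
      exact (QuotientGroup.eq_one_iff (⟨x, hx⟩ : M)).mp (hbij.1 (h.trans he1.symm))
    · intro h
      rw [show QuotientGroup.mk' L' ⟨x, hx⟩ = 1 from (QuotientGroup.eq_one_iff _).mpr h, he1]

/-- A biadditive function on two sections gives a biadditive map of the field. -/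
theorem exists_bilinear {F : Type} [Field F] {M N : Subgroup G} (hM : D.Inv M) (hN : D.Inv N)
    (χ : Coord D M F) (ψ : Coord D N F) (P : G → G → F) (ρ : F)
    (hl : ∀ x ∈ M, ∀ x' ∈ M, ∀ y ∈ N, P (x * x') y = P x y + P x' y)
    (hr : ∀ x ∈ M, ∀ y ∈ N, ∀ y' ∈ N, P x (y * y') = P x y + P x y')
    (hl0 : ∀ x ∈ M, ∀ y ∈ N, χ.e x = 0 → P x y = 0)
    (hr0 : ∀ x ∈ M, ∀ y ∈ N, ψ.e y = 0 → P x y = 0)
    (heq : ∀ x ∈ M, ∀ y ∈ N, P (D.ξ x) (D.ξ y) = ρ * P x y) :
    ∃ B : F → F → F, (∀ u u' v, B (u + u') v = B u v + B u' v) ∧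
      (∀ u v v', B u (v + v') = B u v + B u v') ∧
      (∀ u v, B (χ.μ * u) (ψ.μ * v) = ρ * B u v) ∧
      ∀ x ∈ M, ∀ y ∈ N, P x y = B (χ.e x) (ψ.e y) := by
  choose s hsM hs using χ.surj
  choose t htN ht using ψ.surj
  have key : ∀ x ∈ M, ∀ x' ∈ M, ∀ y ∈ N, ∀ y' ∈ N, χ.e x = χ.e x' → ψ.e y = ψ.e y' →
      P x y = P x' y' := by
    intro x hx x' hx' y hy y' hy' hxe hye
    have h1 : χ.e (x⁻¹ * x') = 0 := by
      have h := χ.mul x hx _ (M.mul_mem (M.inv_mem hx) hx')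
      rw [mul_inv_cancel_left, ← hxe] at h
      simpa using h
    have h2 : ψ.e (y⁻¹ * y') = 0 := by
      have h := ψ.mul y hy _ (N.mul_mem (N.inv_mem hy) hy')
      rw [mul_inv_cancel_left, ← hye] at h
      simpa using h
    have e1 : P x' y' = P x y' := by
      conv_lhs => rw [show x' = x * (x⁻¹ * x') by group]
      rw [hl x hx _ (M.mul_mem (M.inv_mem hx) hx') y' hy', hl0 _ (M.mul_mem (M.inv_mem hx) hx') y' hy' h1,
        add_zero]
    have e2 : P x y' = P x y := by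
      conv_lhs => rw [show y' = y * (y⁻¹ * y') by group]
      rw [hr x hx y hy _ (N.mul_mem (N.inv_mem hy) hy'), hr0 x hx _ (N.mul_mem (N.inv_mem hy) hy') h2,
        add_zero]
    rw [e1, e2]
  refine ⟨fun u v => P (s u) (t v), fun u u' v => ?_, fun u v v' => ?_, fun u v => ?_,
    fun x hx y hy => key x hx _ (hsM _) y hy _ (htN _) (hs _).symm (ht _).symm⟩
  · show P (s (u + u')) (t v) = _
    rw [← hl _ (hsM u) _ (hsM u') _ (htN v)]
    exact key _ (hsM _) _ (M.mul_mem (hsM u) (hsM u')) _ (htN v) _ (htN v)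
      (by rw [χ.mul _ (hsM u) _ (hsM u'), hs, hs, hs]) rfl
  · show P (s u) (t (v + v')) = _
    rw [← hr _ (hsM u) _ (htN v) _ (htN v')]
    exact key _ (hsM u) _ (hsM u) _ (htN _) _ (N.mul_mem (htN v) (htN v')) rfl
      (by rw [ψ.mul _ (htN v) _ (htN v'), ht, ht, ht])
  · show P (s (χ.μ * u)) (t (ψ.μ * v)) = _
    rw [← heq _ (hsM u) _ (htN v)]
    exact key _ (hsM _) _ (hM _ (hsM u)) _ (htN _) _ (hN _ (htN v))
      (by rw [χ.equiv _ (hsM u), hs, hs]) (by rw [ψ.equiv _ (htN v), ht, ht])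

theorem Coord.map_pow {F : Type} [Field F] {M : Subgroup G} (χ : Coord D M F) (hM : D.Inv M) :
    ∀ (i : ℕ), ∀ x ∈ M, χ.e ((D.ξ ^ i) x) = χ.μ ^ i * χ.e x := by
  intro i
  induction i with
  | zero => intro x hx; simp
  | succ i ih =>
    intro x hx
    rw [pow_succ', MulAut.mul_apply, χ.equiv _ (D.pow_inv hM i x hx), ih x hx, pow_succ', mul_assoc]

/-- A nonzero equivariant pairing of a section with coordinates gives coordinates on the left. -/
theorem exists_left_coord {F : Type} [Field F] [Fintype F] (hF : Fintype.card F = 2 ^ n)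
    {L M N : Subgroup G} (hLn : L.Normal) (hL : D.Inv L) (hM : D.Inv M) (hN : D.Inv N) (hlt : L < M)
    (hsq : ∀ x ∈ M, x ^ 2 ∈ L) (hirr : ∀ H : Subgroup G, D.Inv H → L ≤ H → H ≤ M → H = L ∨ H = M)
    (χ : Coord D N F) (P : G → G → F) (ρ : F) (hρ : orderOf ρ = D.m)
    (hl : ∀ x ∈ M, ∀ x' ∈ M, ∀ y ∈ N, P (x * x') y = P x y + P x' y)
    (hr : ∀ x ∈ M, ∀ y ∈ N, ∀ y' ∈ N, P x (y * y') = P x y + P x y')
    (hl0 : ∀ x ∈ L, ∀ y ∈ N, P x y = 0)
    (hr0 : ∀ x ∈ M, ∀ y ∈ N, χ.e y = 0 → P x y = 0)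
    (heq : ∀ x ∈ M, ∀ y ∈ N, P (D.ξ x) (D.ξ y) = ρ * P x y)
    (hne : ∃ x ∈ M, ∃ y ∈ N, P x y ≠ 0) :
    (∀ x ∈ M, (∀ y ∈ N, P x y = 0) → x ∈ L) ∧
      ∃ γ : Coord D M F, ∀ x ∈ M, (γ.e x = 0 ↔ x ∈ L) := by
  classical
  have h1 : ∀ y ∈ N, P 1 y = 0 := fun y hy => hl0 1 L.one_mem y hy
  let K : Subgroup G :=
    { carrier := {x | x ∈ M ∧ ∀ y ∈ N, P x y = 0}
      one_mem' := ⟨M.one_mem, h1⟩
      mul_mem' := fun {x x'} hx hx' => ⟨M.mul_mem hx.1 hx'.1, fun y hy => by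
        rw [hl x hx.1 x' hx'.1 y hy, hx.2 y hy, hx'.2 y hy, add_zero]⟩
      inv_mem' := fun {x} hx => ⟨M.inv_mem hx.1, fun y hy => by
        have h := hl x hx.1 x⁻¹ (M.inv_mem hx.1) y hy
        rw [mul_inv_cancel, h1 y hy, hx.2 y hy, zero_add] at h
        exact h.symm⟩ }
  have hK : D.Inv K := fun x hx => ⟨hM x hx.1, fun y hy => by
    obtain ⟨y', hy'⟩ : ∃ y', (⟨y, hy⟩ : N) = D.res hN y' :=
      ⟨(D.res hN).symm ⟨y, hy⟩, ((D.res hN).apply_symm_apply _).symm⟩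
    have : y = D.ξ (y' : G) := congrArg Subtype.val hy'
    rw [this, heq x hx.1 _ y'.2, hx.2 _ y'.2, mul_zero]⟩
  have hKL : K = L := by
    refine (hirr K hK (fun x hx => ⟨hlt.le hx, fun y hy => hl0 x hx y hy⟩) fun x hx => hx.1).resolve_right
      fun h => ?_
    obtain ⟨x, hx, y, hy, hxy⟩ := hne
    exact hxy ((h.ge hx).2 y hy)
  refine ⟨fun x hx h => hKL.le ⟨hx, h⟩, exists_coord hF hLn hL hM hlt hsq hirr fun x hx => ?_⟩
  have hpow : ∀ (i : ℕ), ∀ x ∈ M, ∀ y ∈ N, P ((D.ξ ^ i) x) ((D.ξ ^ i) y) = ρ ^ i * P x y := by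
    intro i
    induction i with
    | zero => intro x hx y hy; simp
    | succ i ih =>
      intro x hx y hy
      rw [pow_succ' D.ξ, MulAut.mul_apply, MulAut.mul_apply,
        heq _ (D.pow_inv hM i x hx) _ (D.pow_inv hN i y hy), ih x hx y hy, pow_succ', mul_assoc]
  refine hKL.le ⟨M.mul_mem (M.inv_mem hx) (D.pow_inv hM _ x hx), fun y hy => ?_⟩
  have hxm := D.pow_inv hM D.m x hx
  have hym := D.pow_inv hN D.m y hy
  set y' := y⁻¹ * (D.ξ ^ D.m) y with hy'
  have hy'N : y' ∈ N := N.mul_mem (N.inv_mem hy) hym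
  have hy'0 : χ.e y' = 0 := by
    have h := χ.mul y hy y' hy'N
    rw [hy', mul_inv_cancel_left, χ.map_pow hN _ y hy, ← χ.order, pow_orderOf_eq_one, one_mul] at h
    rw [hy', ← χ.order]
    exact left_eq_add.mp h
  have h2 : P ((D.ξ ^ D.m) x) y = P x y := by
    have h3 := hr _ hxm y hy y' hy'N
    rw [hr0 _ hxm y' hy'N hy'0, add_zero, hy', mul_inv_cancel_left, hpow _ x hx y hy, ← hρ,
      pow_orderOf_eq_one, one_mul] at h3
    rw [← hρ]
    exact h3.symm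
  rw [hl _ (M.inv_mem hx) _ hxm y hy, h2, ← hl _ (M.inv_mem hx) x hx y hy, inv_mul_cancel, h1 y hy]

theorem exists_field (D : Data G n) :
    ∃ (F : Type) (_ : Field F) (_ : Fintype F), CharP F 2 ∧ Fintype.card F = 2 ^ n := by
  haveI := Fact.mk Nat.prime_two
  have h := D.two_le
  letI : Fintype (GaloisField 2 n) := Fintype.ofFinite _
  refine ⟨GaloisField 2 n, inferInstance, inferInstance, inferInstance, ?_⟩
  rw [← Nat.card_eq_fintype_card]
  exact GaloisField.card 2 n (by omega)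

/-- A maximal invariant subgroup which is abelian. -/
theorem abelian_case (D : Data G n) {A : Subgroup G} (hAn : A.Normal) (hA : D.Inv A) (hne : A ≠ ⊤)
    (hAc : ∀ a ∈ A, ∀ b ∈ A, a * b = b * a) (hωA : D.ω ≤ A) (hsqA : ∀ g : G, g ^ 2 ∈ A)
    (hcomA : ∀ g h : G, ⁅g, h⁆ ∈ A) (hmax : ∀ H : Subgroup G, D.Inv H → A ≤ H → H = A ∨ H = ⊤)
    (hna : ¬ IsMulCommutative G) : ∀ g : G, g ^ 2 ∈ D.ω := by
  classical
  haveI := hAn
  obtain ⟨F, _, _, _, hF⟩ := exists_field D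
  have hωn : (D.ω).Normal := D.ω_normal
  have hωne : D.ω ≠ ⊥ := fun h => by
    have := D.card_ω; rw [h, card_bot] at this; have := D.four_le; omega
  have hbot : D.Inv ⊥ := fun x hx => by rw [mem_bot] at hx ⊢; rw [hx, map_one]
  obtain ⟨φ, hφ⟩ := exists_coord (D := D) hF inferInstance hbot D.ω_inv
    (bot_lt_iff_ne_bot.mpr hωne) (fun x hx => mem_bot.mpr hx)
    (fun H hH _ hle => by
      by_cases h : H = ⊥
      · exact Or.inl h
      · exact Or.inr (le_antisymm hle (D.ω_le hH h)))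
    (fun x hx => mem_bot.mpr (by rw [D.order x hx, inv_mul_cancel]))
  have hφinj : ∀ z ∈ D.ω, φ.e z = 0 → z = 1 := fun z hz h => mem_bot.mp ((hφ z hz).mp h)
  have hex : ∃ m, ∀ a ∈ A, a ^ 2 ^ m = 1 := by
    obtain ⟨m, hm⟩ := IsPGroup.iff_card.mp (D.isPGroup.to_subgroup A)
    refine ⟨m, fun a ha => ?_⟩
    have h := pow_card_eq_one' (x := (⟨a, ha⟩ : A))
    rw [hm] at h
    exact congrArg Subtype.val h
  set m := Nat.find hex with hm
  have hm1 := Nat.find_spec hex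
  rcases Nat.lt_or_ge m 2 with hlt | hge
  · intro g
    refine D.mem_ω.mpr ?_
    have h := hm1 _ (hsqA g)
    rcases (show m = 0 ∨ m = 1 by omega) with h0 | h0
    · rw [← hm, h0, pow_zero, pow_one] at h; rw [h, one_pow]
    · rwa [← hm, h0, pow_one] at h
  obtain ⟨k, hk⟩ : ∃ k, m = k + 2 := ⟨m - 2, by omega⟩
  rw [← hm, hk] at hm1
  obtain ⟨a₀, ha₀, ha₀1⟩ : ∃ a ∈ A, a ^ 2 ^ (k + 1) ≠ 1 := by
    have h := Nat.find_min hex (m := k + 1) (by omega)
    push Not at h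
    exact h
  have htopω : ∀ a ∈ A, a ^ 2 ^ (k + 1) ∈ D.ω := fun a ha => D.mem_ω.mpr (by
    rw [← pow_mul, ← pow_succ]; exact hm1 a ha)
  have hApow : ∀ a ∈ A, ∀ b ∈ A, ∀ i : ℕ, (a * b) ^ i = a ^ i * b ^ i := fun a ha b hb i =>
    Commute.mul_pow (hAc a ha b hb) i
  let χ : Coord D A F :=
    { e := fun a => φ.e (a ^ 2 ^ (k + 1))
      μ := φ.μ
      order := φ.order
      mul := fun a ha b hb => by rw [hApow a ha b hb]; exact φ.mul _ (htopω a ha) _ (htopω b hb)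
      surj := fun v => by
        obtain ⟨z, hz, hzv⟩ := φ.surj v
        obtain ⟨c, hc, hcz⟩ := D.image_eq hA (fun a => a ^ 2 ^ (k + 1))
          (fun a ha b hb => hApow a ha b hb _) htopω (fun a _ => (map_pow D.ξ a _).symm) ha₀ ha₀1 hz
        exact ⟨c, hc, by rw [hcz]; exact hzv⟩
      equiv := fun a ha => by rw [← map_pow]; exact φ.equiv _ (htopω a ha) }
  have hχ0 : ∀ a ∈ A, χ.e a = 0 → a ^ 2 ^ (k + 1) = 1 := fun a ha h => hφinj _ (htopω a ha) h
  -- squares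
  let sq : A →* A := MonoidHom.mk' (fun a => a ^ 2) fun a b =>
    Subtype.ext (hApow a a.2 b b.2 2)
  set A2 : Subgroup G := sq.range.map A.subtype with hA2def
  have hA2mem : ∀ x, x ∈ A2 ↔ ∃ a ∈ A, a ^ 2 = x := by
    intro x
    constructor
    · rintro ⟨_, ⟨a, rfl⟩, rfl⟩
      exact ⟨a, a.2, rfl⟩
    · rintro ⟨a, ha, rfl⟩
      exact ⟨_, ⟨⟨a, ha⟩, rfl⟩, rfl⟩
  have hker : Nat.card sq.ker = 2 ^ n := by
    rw [← D.card_ω]
    exact Nat.card_congr
      { toFun := fun a => ⟨((a : A) : G), congrArg Subtype.val (MonoidHom.mem_ker.mp a.2)⟩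
        invFun := fun z => ⟨⟨(z : G), hωA z.2⟩, MonoidHom.mem_ker.mpr (Subtype.ext z.2)⟩
        left_inv := fun a => rfl
        right_inv := fun z => rfl }
  have hcardA : Nat.card A = 2 ^ n * Nat.card A2 := by
    rw [hA2def, card_map_of_injective A.subtype_injective, ← sq.ker.card_mul_index, hker,
      Subgroup.index_ker]
  have hA2le : A2 ≤ A := map_subtype_le _
  have hA2inv : D.Inv A2 := fun x hx => by
    obtain ⟨a, ha, rfl⟩ := (hA2mem x).mp hx
    exact (hA2mem _).mpr ⟨D.ξ a, hA a ha, (map_pow _ _ _).symm⟩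
  have hA2n : A2.Normal := ⟨fun x hx g => by
    obtain ⟨a, ha, rfl⟩ := (hA2mem x).mp hx
    exact (hA2mem _).mpr ⟨g * a * g⁻¹, hAn.conj_mem a ha g, conj_pow⟩⟩
  have hχker : ∀ a ∈ A, χ.e a = 0 → ∃ b ∈ A, b ^ 2 = a := by
    intro a ha h
    refine (hA2mem a).mp ?_
    let C : Subgroup G :=
      { carrier := {x | x ∈ A ∧ x ^ 2 ^ (k + 1) = 1}
        one_mem' := ⟨A.one_mem, one_pow _⟩
        mul_mem' := fun {x y} hx hy => ⟨A.mul_mem hx.1 hy.1, by
          rw [hApow x hx.1 y hy.1, hx.2, hy.2, one_mul]⟩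
        inv_mem' := fun {x} hx => ⟨A.inv_mem hx.1, by rw [inv_pow, hx.2, inv_one]⟩ }
    have hC : D.Inv C := fun x hx => ⟨hA x hx.1, by rw [← map_pow, hx.2, map_one]⟩
    have hle : A2 ≤ C := fun x hx => by
      obtain ⟨b, hb, rfl⟩ := (hA2mem x).mp hx
      exact ⟨A.pow_mem hb 2, by rw [← pow_mul, ← pow_succ']; exact hm1 b hb⟩
    rcases D.card_eq_of_between hA2inv hC hle (fun x hx => hx.1) hcardA with h' | h'
    · exact h'.le ⟨ha, hχ0 a ha h⟩
    · exact absurd (h'.ge ha₀).2 ha₀1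
  -- the action on `A`
  have hθA : ∀ g a : G, a ∈ A → ⁅g, a⁆ ∈ A := fun g a ha => hcomA g a
  have hθmul : ∀ g a b : G, a ∈ A → b ∈ A → ⁅g, a * b⁆ = ⁅g, a⁆ * ⁅g, b⁆ := by
    intro g a b ha hb
    rw [show ⁅g, a * b⁆ = ⁅g, a⁆ * (a * ⁅g, b⁆ * a⁻¹) by simp only [commutatorElement_def]; group,
      hAc a ha _ (hθA g b hb), mul_inv_cancel_right]
  have hθpow : ∀ g a : G, a ∈ A → ∀ i : ℕ, ⁅g, a ^ i⁆ = ⁅g, a⁆ ^ i := by
    intro g a ha i
    induction i with
    | zero => rw [pow_zero, pow_zero, commutatorElement_one_right]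
    | succ i ih => rw [pow_succ, pow_succ, hθmul g _ a (A.pow_mem ha i) ha, ih]
  have hθone : ∀ g a : G, g ∈ A → a ∈ A → ⁅g, a⁆ = 1 := fun g a hg ha =>
    commutatorElement_eq_one_iff_commute.mpr (hAc g hg a ha)
  have hθθ : ∀ g a : G, a ∈ A → ⁅g, ⁅g, a⁆⁆ = (⁅g, a⁆ ^ 2)⁻¹ := by
    intro g a ha
    have h1 : g * (g * a * g⁻¹) * g⁻¹ = a := by
      rw [show g * (g * a * g⁻¹) * g⁻¹ = g ^ 2 * a * (g ^ 2)⁻¹ by rw [pow_two]; group,
        hAc _ (hsqA g) a ha, mul_inv_cancel_right]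
    have h2 : g * ⁅g, a⁆ * g⁻¹ = ⁅g, a⁆⁻¹ := by
      rw [show g * ⁅g, a⁆ * g⁻¹ = g * (g * a * g⁻¹) * g⁻¹ * (g * a * g⁻¹)⁻¹ by
        simp only [commutatorElement_def]; group, h1]
      simp only [commutatorElement_def]; group
    rw [show ⁅g, ⁅g, a⁆⁆ = g * ⁅g, a⁆ * g⁻¹ * ⁅g, a⁆⁻¹ from commutatorElement_def _ _, h2, pow_two,
      mul_inv_rev]
  have hθgh : ∀ g h a : G, a ∈ A → ⁅g * h, a⁆ = ⁅g, ⁅h, a⁆⁆ * ⁅h, a⁆ * ⁅g, a⁆ := by
    intro g h a ha
    simp only [commutatorElement_def]; group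
  have hθA2 : ∀ g a : G, a ∈ A → ⁅g, a⁆ ∈ A2 := by
    intro g a ha
    rw [← commutatorElement_inv]
    exact A2.inv_mem ((D.comm_le hA2n hAn hA2inv hA hA2le hcardA)
      (Subgroup.commutator_mem_commutator ha (mem_top g)))
  have hθω2 : ∀ g a : G, a ∈ A → ⁅g, a⁆ ^ 2 ^ k ∈ D.ω := by
    intro g a ha
    obtain ⟨b, hb, hba⟩ := (hA2mem _).mp (hθA2 g a ha)
    rw [← hba, ← pow_mul, ← pow_succ']
    exact htopω b hb
  have hAlt : A < ⊤ := lt_top_iff_ne_top.mpr hne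
  have hirrA : ∀ H : Subgroup G, D.Inv H → A ≤ H → H ≤ ⊤ → H = A ∨ H = ⊤ :=
    fun H hH hle _ => hmax H hH hle
  -- commutation is trivial on the second layer
  have stepA : ∀ g a : G, a ∈ A → ⁅g, a⁆ ^ 2 = 1 := by
    rcases Nat.eq_zero_or_pos k with hk0 | hk0
    · intro g a ha
      have h := hθω2 g a ha
      rw [hk0, pow_zero, pow_one] at h
      exact h
    obtain ⟨j, hj⟩ : ∃ j, k = j + 1 := ⟨k - 1, by omega⟩
    set P : G → G → F := fun g a => φ.e (⁅g, a⁆ ^ 2 ^ k) with hP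
    have pl : ∀ g ∈ (⊤ : Subgroup G), ∀ h ∈ (⊤ : Subgroup G), ∀ a ∈ A, P (g * h) a = P g a + P h a :=
      fun g _ h _ a ha => by
        have h1 : ⁅g, ⁅h, a⁆⁆ ^ 2 ^ k = 1 := by
          obtain ⟨b, hb, hba⟩ := (hA2mem _).mp (hθA2 h a ha)
          obtain ⟨c, hc, hcb⟩ := (hA2mem _).mp (hθA2 g b hb)
          rw [← hba, hθpow g b hb, ← hcb, ← pow_mul, ← pow_mul,
            show 2 * (2 * 2 ^ k) = 2 ^ (k + 2) by rw [pow_add]; ring]
          exact hm1 c hc
        show φ.e (⁅g * h, a⁆ ^ 2 ^ k) = φ.e (⁅g, a⁆ ^ 2 ^ k) + φ.e (⁅h, a⁆ ^ 2 ^ k)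
        rw [hθgh g h a ha, hApow _ (A.mul_mem (hθA g _ (hθA h a ha)) (hθA h a ha)) _ (hθA g a ha),
          hApow _ (hθA g _ (hθA h a ha)) _ (hθA h a ha), h1, one_mul,
          φ.mul _ (hθω2 h a ha) _ (hθω2 g a ha), add_comm]
    have pr : ∀ g ∈ (⊤ : Subgroup G), ∀ a ∈ A, ∀ b ∈ A, P g (a * b) = P g a + P g b :=
      fun g _ a ha b hb => by
        show φ.e (⁅g, a * b⁆ ^ 2 ^ k) = _
        rw [hθmul g a b ha hb, hApow _ (hθA g a ha) _ (hθA g b hb),
          φ.mul _ (hθω2 g a ha) _ (hθω2 g b hb)]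
    have pl0 : ∀ g ∈ A, ∀ a ∈ A, P g a = 0 :=
      fun g hg a ha => by
        show φ.e _ = 0
        rw [hθone g a hg ha, one_pow, φ.map_one]
    have pr0 : ∀ g ∈ (⊤ : Subgroup G), ∀ a ∈ A, χ.e a = 0 → P g a = 0 :=
      fun g _ a ha h => by
        show φ.e _ = 0
        obtain ⟨b, hb, rfl⟩ := hχker a ha h
        obtain ⟨c, hc, hcb⟩ := (hA2mem _).mp (hθA2 g b hb)
        rw [hθpow g b hb, ← hcb, ← pow_mul, ← pow_mul,
          show 2 * (2 * 2 ^ k) = 2 ^ (k + 2) by rw [pow_add]; ring, hm1 c hc, φ.map_one]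
    have peq : ∀ g ∈ (⊤ : Subgroup G), ∀ a ∈ A, P (D.ξ g) (D.ξ a) = φ.μ * P g a :=
      fun g _ a ha => by
        show φ.e (⁅D.ξ g, D.ξ a⁆ ^ 2 ^ k) = _
        rw [← map_commutatorElement, ← map_pow]
        exact φ.equiv _ (hθω2 g a ha)
    have hzero : ∀ g, ∀ a ∈ A, P g a = 0 := by
      by_contra hne'
      push Not at hne'
      obtain ⟨g₂, a₂, ha₂, hga⟩ := hne'
      obtain ⟨-, γ, hγ⟩ := exists_left_coord hF hAn hA D.top_inv hA hAlt (fun x _ => hsqA x) hirrA χ P φ.μ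
        φ.order pl pr pl0 pr0 peq ⟨g₂, mem_top _, a₂, ha₂, hga⟩
      obtain ⟨B, hBl, hBr, hBeq, hB⟩ := exists_bilinear D.top_inv hA γ χ P φ.μ pl pr
        (fun g hg a ha h => pl0 g ((hγ g hg).mp h) a ha) pr0 peq
      have hidem : ∀ u v, B u (B u v) = B u v := by
        intro u v
        obtain ⟨g, -, rfl⟩ := γ.surj u
        obtain ⟨a, ha, rfl⟩ := χ.surj v
        obtain ⟨ε, hε, hεa⟩ := (hA2mem _).mp (hθA2 g a ha)
        have h1 : χ.e ε = B (γ.e g) (χ.e a) := by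
          rw [← hB g (mem_top g) a ha]
          show φ.e (ε ^ 2 ^ (k + 1)) = φ.e (⁅g, a⁆ ^ 2 ^ k)
          rw [← hεa, ← pow_mul, ← pow_succ']
        rw [← h1, ← hB g (mem_top g) ε hε]
        show φ.e (⁅g, ε⁆ ^ 2 ^ k) = φ.e (ε ^ 2 ^ (k + 1))
        have h2 : ⁅g, ε⁆ ^ 2 = ((ε ^ 2) ^ 2)⁻¹ := by
          rw [← hθpow g ε hε, hεa, hθθ g a ha]
        have h3 : ε ^ 2 ^ (k + 1) * ε ^ 2 ^ (k + 1) = 1 := by
          rw [← pow_add, ← two_mul, ← pow_succ']; exact hm1 ε hε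
        refine congrArg φ.e ?_
        rw [hj, pow_succ', pow_mul, h2, inv_pow, ← pow_mul, ← pow_mul,
          show 2 * (2 * 2 ^ j) = 2 ^ (k + 1) by rw [hj, pow_succ, pow_succ]; ring,
          inv_eq_of_mul_eq_one_right h3, hj]
      have hzero : ∀ u v, B u v = 0 := by
        rcases Semi.bilinear_weight D.two_le hF D.mul_eq D.dvd D.one_lt B hBl hBr γ.order φ.order hBeq with h | ⟨hnd, -⟩
        · exact h
        exfalso
        have h1 : ∀ u v, u ≠ 0 → B u v = v := fun u v hu => by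
          by_contra hne'
          refine hnd u (B u v - v) hu (sub_ne_zero.mpr hne') ?_
          rw [CharTwo.sub_eq_add, hBr, hidem]
          exact CharTwo.add_self_eq_zero _
        obtain ⟨u, hu⟩ := exists_ne (0 : F)
        have hμ1 : γ.μ ≠ 1 := fun h => by
          have := γ.order; rw [h, orderOf_one] at this; have := D.one_lt; omega
        have hμ0 : γ.μ ≠ 0 := fun h => by
          have h1 := pow_orderOf_eq_one γ.μ
          rw [γ.order, h, zero_pow (by have := D.one_lt; omega)] at h1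
          exact zero_ne_one h1
        have hsum : u + γ.μ * u ≠ 0 := by
          rw [show u + γ.μ * u = (1 + γ.μ) * u by ring]
          refine mul_ne_zero (fun h => hμ1 ?_) hu
          exact (CharTwo.add_eq_zero.mp h).symm
        have h2 := hBl u (γ.μ * u) 1
        rw [h1 _ 1 hsum, h1 _ 1 hu, h1 _ 1 (mul_ne_zero hμ0 hu), CharTwo.add_self_eq_zero] at h2
        exact one_ne_zero h2
      exact hga ((hB g₂ (mem_top g₂) a₂ ha₂).trans (hzero _ _))
    have hθA4 : ∀ g a : G, a ∈ A → ∃ b ∈ A, ⁅g, a⁆ = (b ^ 2) ^ 2 := by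
      intro g a ha
      obtain ⟨y, hy, hya⟩ := (hA2mem _).mp (hθA2 g a ha)
      have h : χ.e y = 0 := by
        show φ.e (y ^ 2 ^ (k + 1)) = 0
        rw [pow_succ', pow_mul, hya]
        exact hzero g a ha
      obtain ⟨b, hb, hby⟩ := hχker y hy h
      exact ⟨b, hb, by rw [hby, hya]⟩
    intro g
    have down : ∀ i, (∀ a ∈ A, ⁅g, a⁆ ^ 2 ^ (i + 2) = 1) → ∀ a ∈ A, ⁅g, a⁆ ^ 2 ^ (i + 1) = 1 := by
      intro i hi a ha
      obtain ⟨b, hb, hab⟩ := hθA4 g a ha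
      have h1 : ⁅g, ⁅g, a⁆⁆ ^ 2 ^ i = 1 := by
        rw [hab, hθpow g _ (A.pow_mem hb 2), hθpow g b hb, ← pow_mul, ← pow_mul,
          show 2 * (2 * 2 ^ i) = 2 ^ (i + 2) by rw [pow_add]; ring]
        exact hi b hb
      rw [hθθ g a ha, inv_pow, inv_eq_one, ← pow_mul, ← pow_succ'] at h1
      exact h1
    have all : ∀ i, (∀ a ∈ A, ⁅g, a⁆ ^ 2 ^ (i + 1) = 1) → ∀ a ∈ A, ⁅g, a⁆ ^ 2 = 1 := by
      intro i
      induction i with
      | zero => intro h a ha; simpa using h a ha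
      | succ i ih => intro h; exact ih (down i h)
    intro a ha
    exact all (k + 1) (fun a ha => hm1 _ (hθA g a ha)) a ha
  have hθω : ∀ g a : G, a ∈ A → ⁅g, a⁆ ∈ D.ω := fun g a ha => D.mem_ω.mpr (stepA g a ha)
  have hθsq : ∀ g b : G, b ∈ A → ⁅g, b ^ 2⁆ = 1 := fun g b hb => by
    rw [hθpow g b hb]; exact stepA g b hb
  set P : G → G → F := fun g a => φ.e ⁅g, a⁆ with hP
  have pl : ∀ g ∈ (⊤ : Subgroup G), ∀ h ∈ (⊤ : Subgroup G), ∀ a ∈ A, P (g * h) a = P g a + P h a :=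
    fun g _ h _ a ha => by
      show φ.e ⁅g * h, a⁆ = φ.e ⁅g, a⁆ + φ.e ⁅h, a⁆
      have h1 : ⁅g, ⁅h, a⁆⁆ = 1 := by
        rw [commutatorElement_eq_one_iff_commute]
        exact mem_center_iff.mp (D.ω_le_center (hθω h a ha)) g
      rw [hθgh g h a ha, h1, one_mul, φ.mul _ (hθω h a ha) _ (hθω g a ha), add_comm]
  have pr : ∀ g ∈ (⊤ : Subgroup G), ∀ a ∈ A, ∀ b ∈ A, P g (a * b) = P g a + P g b :=
    fun g _ a ha b hb => by
      show φ.e ⁅g, a * b⁆ = _
      rw [hθmul g a b ha hb, φ.mul _ (hθω g a ha) _ (hθω g b hb)]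
  have pl0 : ∀ g ∈ A, ∀ a ∈ A, P g a = 0 :=
    fun g hg a ha => by
      show φ.e _ = 0
      rw [hθone g a hg ha, φ.map_one]
  have pr0 : ∀ g ∈ (⊤ : Subgroup G), ∀ a ∈ A, χ.e a = 0 → P g a = 0 :=
    fun g _ a ha h => by
      show φ.e _ = 0
      obtain ⟨b, hb, rfl⟩ := hχker a ha h
      rw [hθsq g b hb, φ.map_one]
  have peq : ∀ g ∈ (⊤ : Subgroup G), ∀ a ∈ A, P (D.ξ g) (D.ξ a) = φ.μ * P g a :=
    fun g _ a ha => by
      show φ.e ⁅D.ξ g, D.ξ a⁆ = _
      rw [← map_commutatorElement]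
      exact φ.equiv _ (hθω g a ha)
  by_cases hP0 : ∀ g, ∀ a ∈ A, P g a = 0
  swap
  · -- nondegenerate commutation
    push Not at hP0
    obtain ⟨g₂, a₂, ha₂, hga⟩ := hP0
    obtain ⟨-, γ, hγ⟩ := exists_left_coord hF hAn hA D.top_inv hA hAlt (fun x _ => hsqA x) hirrA χ P φ.μ
      φ.order pl pr pl0 pr0 peq ⟨g₂, mem_top _, a₂, ha₂, hga⟩
    have hγ0 : ∀ g, γ.e g = 0 → g ∈ A := fun g h => (hγ g (mem_top g)).mp h
    obtain ⟨B, hBl, hBr, hBeq, hB⟩ := exists_bilinear D.top_inv hA γ χ P φ.μ pl pr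
      (fun g hg a ha h => pl0 g ((hγ g hg).mp h) a ha) pr0 peq
    rcases Semi.bilinear_weight D.two_le hF D.mul_eq D.dvd D.one_lt B hBl hBr γ.order φ.order hBeq with
      hB0 | ⟨hnd, -⟩
    · exact absurd ((hB g₂ (mem_top g₂) a₂ ha₂).trans (hB0 _ _)) hga
    have hsquare : ∀ g, g ∉ A → ∃ c ∈ A, c ^ 2 = g ^ 2 := by
      intro g hg
      refine hχker _ (hsqA g) ?_
      by_contra hne'
      refine hnd _ _ (fun h => hg (hγ0 g h)) hne' ?_
      rw [← hB g (mem_top g) _ (hsqA g)]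
      show φ.e ⁅g, g ^ 2⁆ = 0
      rw [commutatorElement_eq_one_iff_commute.mpr ((Commute.refl g).pow_right 2), φ.map_one]
    intro g
    rcases Nat.eq_zero_or_pos k with hk0 | hk0
    · refine D.mem_ω.mpr ?_
      by_cases hg : g ∈ A
      · have h := hm1 g hg
        rw [hk0] at h
        rw [← pow_mul]
        exact h
      · obtain ⟨c, hc, hcg⟩ := hsquare g hg
        have h := hm1 c hc
        rw [hk0] at h
        rw [← hcg, ← pow_mul]
        exact h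
    exfalso
    obtain ⟨g, -, hg⟩ := SetLike.exists_of_lt hAlt
    obtain ⟨c, hc, hcg⟩ := hsquare g hg
    set z := ⁅g⁻¹, c⁻¹⁆ with hz
    have hzω : z ∈ D.ω := hθω g⁻¹ c⁻¹ (A.inv_mem hc)
    have h1 : (g * c⁻¹) ^ 2 = z := by
      rw [pow_two, show g * c⁻¹ * (g * c⁻¹) = g ^ 2 * (g⁻¹ * c⁻¹ * g * (c⁻¹)⁻¹) * (c⁻¹ * c⁻¹) by
        rw [pow_two]; group,
        show g⁻¹ * c⁻¹ * g * (c⁻¹)⁻¹ = z by rw [hz, commutatorElement_def, inv_inv, inv_inv],
        ← hcg, mem_center_iff.mp (D.ω_le_center hzω) (c ^ 2), mul_assoc, pow_two]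
      group
    obtain ⟨y, hy, hyz⟩ := χ.surj (φ.e z)
    have hyz' : y ^ 2 ^ (k + 1) = z := by
      have h : φ.e (y ^ 2 ^ (k + 1) * z) = 0 := by
        rw [φ.mul _ (htopω y hy) _ hzω, ← hyz]
        exact CharTwo.add_self_eq_zero _
      have h2 := hφinj _ (D.ω.mul_mem (htopω y hy) hzω) h
      rw [eq_inv_of_mul_eq_one_left h2]
      exact inv_eq_of_mul_eq_one_right (by rw [← pow_two]; exact hzω)
    set b := y ^ 2 ^ k with hb
    have hbA : b ∈ A := A.pow_mem hy _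
    have hb2 : b ^ 2 = z := by rw [hb, ← pow_mul, ← pow_succ, hyz']
    obtain ⟨j, hj⟩ : ∃ j, k = j + 1 := ⟨k - 1, by omega⟩
    have hbc : Commute (g * c⁻¹) b⁻¹ := by
      refine Commute.inv_right (commutatorElement_eq_one_iff_commute.mp ?_)
      rw [hb, hj, pow_succ, pow_mul]
      exact hθsq _ _ (A.pow_mem hy _)
    have h3 : (g * c⁻¹ * b⁻¹) ^ 2 = 1 := by
      rw [hbc.mul_pow, h1, inv_pow, hb2, mul_inv_cancel]
    have h4 := hωA h3
    exact hg (by
      rw [show g = g * c⁻¹ * b⁻¹ * b * c by group]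
      exact A.mul_mem (A.mul_mem h4 hbA) hc)
  -- `A` is central
  exfalso
  have hAcent : ∀ g a : G, a ∈ A → Commute g a := by
    intro g a ha
    refine commutatorElement_eq_one_iff_commute.mp (hφinj _ (hθω g a ha) ?_)
    exact hP0 g a ha
  have hcen : ∀ a ∈ A, a ∈ center G := fun a ha => mem_center_iff.mpr fun g => (hAcent g a ha).eq
  have hcω : ∀ g h : G, ⁅g, h⁆ ∈ D.ω := by
    intro g h
    refine D.mem_ω.mpr ?_
    rw [← comm_pow_left_of_central (hcen _ (hcomA g h)) 2]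
    exact commutatorElement_eq_one_iff_commute.mpr (hAcent h _ (hsqA g)).symm
  have hsqmul : ∀ g h : G, (g * h) ^ 2 = ⁅h, g⁆ * (g ^ 2 * h ^ 2) := by
    intro g h
    have hc := mem_center_iff.mp (D.ω_le_center (hcω h g))
    calc (g * h) ^ 2 = g * (⁅h, g⁆ * g * h) * h := by
          rw [pow_two, commutatorElement_def]; group
      _ = g * ⁅h, g⁆ * g * h * h := by group
      _ = ⁅h, g⁆ * g * g * h * h := by rw [hc g]
      _ = ⁅h, g⁆ * (g ^ 2 * h ^ 2) := by rw [pow_two, pow_two]; group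
  -- squaring
  have hsq4 : ∀ g, g ∉ A → χ.e (g ^ 2) ≠ 0 := by
    intro g hg h
    obtain ⟨c, hc, hcg⟩ := hχker _ (hsqA g) h
    refine hg ?_
    have h1 : (g * c⁻¹) ^ 2 = 1 := by
      rw [((hAcent g c hc).inv_right).mul_pow, inv_pow, hcg, mul_inv_cancel]
    rw [show g = g * c⁻¹ * c by group]
    exact A.mul_mem (hωA h1) hc
  have hcomχ : ∀ g h : G, χ.e ⁅g, h⁆ = 0 := by
    intro g h
    show φ.e (⁅g, h⁆ ^ 2 ^ (k + 1)) = 0
    rw [pow_succ', pow_mul, hcω g h, one_pow, φ.map_one]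
  have hψmul : ∀ g h : G, χ.e ((g * h) ^ 2) = χ.e (g ^ 2) + χ.e (h ^ 2) := by
    intro g h
    rw [hsqmul, χ.mul _ (hcomA h g) _ (A.mul_mem (hsqA g) (hsqA h)), hcomχ, zero_add,
      χ.mul _ (hsqA g) _ (hsqA h)]
  let ψ : Coord D ⊤ F :=
    { e := fun g => χ.e (g ^ 2)
      μ := φ.μ
      order := φ.order
      mul := fun g _ h _ => hψmul g h
      surj := fun v => by
        obtain ⟨g, -, hg⟩ := SetLike.exists_of_lt hAlt
        obtain ⟨z, hz, hzv⟩ := φ.surj v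
        have hw : (g ^ 2) ^ 2 ^ (k + 1) ≠ 1 := fun h => hsq4 g hg (by
          show φ.e _ = 0
          rw [h, φ.map_one])
        obtain ⟨c, -, hcz⟩ := D.image_eq D.top_inv (fun x => (x ^ 2) ^ 2 ^ (k + 1))
          (fun x _ y _ => by
            show ((x * y) ^ 2) ^ 2 ^ (k + 1) = (x ^ 2) ^ 2 ^ (k + 1) * (y ^ 2) ^ 2 ^ (k + 1)
            rw [hsqmul, hApow _ (hcomA y x) _ (A.mul_mem (hsqA x) (hsqA y)),
              hApow _ (hsqA x) _ (hsqA y), pow_succ' 2 k, pow_mul ⁅y, x⁆, hcω y x, one_pow, one_mul])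
          (fun x _ => htopω _ (hsqA x))
          (fun x _ => by simp only [map_pow]) (mem_top g) hw hz
        exact ⟨c, mem_top _, by
          show φ.e _ = v
          rw [hcz]; exact hzv⟩
      equiv := fun g _ => by
        rw [← map_pow]
        exact χ.equiv _ (hsqA g) }
  have hψ0 : ∀ g, ψ.e g = 0 → g ∈ A := fun g h => by
    by_contra hg; exact hsq4 g hg h
  obtain ⟨C, hCl, hCr, hCeq, hC⟩ := exists_bilinear D.top_inv D.top_inv ψ ψ
    (fun g h => φ.e ⁅g, h⁆) φ.μ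
    (fun g _ g' _ h _ => by
      show φ.e ⁅g * g', h⁆ = φ.e ⁅g, h⁆ + φ.e ⁅g', h⁆
      rw [comm_mul_left_of_central (D.ω_le_center (hcω g' h)), φ.mul _ (hcω g h) _ (hcω g' h)])
    (fun g _ h _ h' _ => by
      show φ.e ⁅g, h * h'⁆ = _
      rw [comm_mul_right_of_central (D.ω_le_center (hcω g h')), φ.mul _ (hcω g h) _ (hcω g h')])
    (fun g _ h _ h0 => by
      show φ.e _ = 0
      rw [commutatorElement_eq_one_iff_commute.mpr (hAcent h g (hψ0 g h0)).symm, φ.map_one])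
    (fun g _ h _ h0 => by
      show φ.e _ = 0
      rw [commutatorElement_eq_one_iff_commute.mpr (hAcent g h (hψ0 h h0)), φ.map_one])
    (fun g _ h _ => by
      show φ.e ⁅D.ξ g, D.ξ h⁆ = _
      rw [← map_commutatorElement]
      exact φ.equiv _ (hcω g h))
  have hC0 := Semi.alternating_weight D.two_le hF D.mul_eq D.dvd D.one_lt C hCl hCr (fun u => by
    obtain ⟨g, -, rfl⟩ := ψ.surj u
    rw [← hC g (mem_top g) g (mem_top g)]
    show φ.e ⁅g, g⁆ = 0
    rw [commutatorElement_self, φ.map_one]) φ.order hCeq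
  refine hna ⟨⟨fun g h => (commutatorElement_eq_one_iff_commute.mp (hφinj _ (hcω g h) ?_)).eq⟩⟩
  have := hC g (mem_top g) h (mem_top h)
  rw [hC0] at this
  exact this

/-- A maximal invariant subgroup which is nonabelian with elementary squares. -/
theorem nonabelian_case (D : Data G n) {M : Subgroup G} (hMn : M.Normal) (hM : D.Inv M)
    (hsqG : ∀ g : G, g ^ 2 ∈ M) (hmax : ∀ H : Subgroup G, D.Inv H → M ≤ H → H = M ∨ H = ⊤)
    (hne : M ≠ ⊤) (hMna : ¬ IsMulCommutative M) (hMsq : ∀ x ∈ M, x ^ 2 ∈ D.ω) :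
    ∀ g : G, g ^ 2 ∈ D.ω := by
  classical
  haveI := hMn
  haveI := D.ω_normal
  obtain ⟨F, _, _, _, hF⟩ := exists_field D
  have hMne : M ≠ ⊥ := fun h => hMna (by rw [h]; infer_instance)
  have hωM : D.ω ≤ M := D.ω_le hM hMne
  set D' := D.restrict hM hMne with hD'
  have hsq' : ∀ x : M, x ^ 2 ∈ D'.ω := fun x => D'.mem_ω.mpr (Subtype.ext (D.mem_ω.mp (hMsq x x.2)))
  have hMcen : ∀ x ∈ M, (∀ y ∈ M, x * y = y * x) → x ∈ D.ω := fun x hx h =>
    D.mem_ω.mpr (congrArg Subtype.val (D'.mem_ω.mp (D'.center_le hsq' hMna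
      (mem_center_iff.mpr fun y => Subtype.ext (h y y.2).symm : (⟨x, hx⟩ : M) ∈ center M))))
  have hMcom : ∀ x ∈ M, ∀ y ∈ M, ⁅x, y⁆ ∈ D.ω := fun x hx y hy =>
    D.mem_ω.mpr (congrArg Subtype.val (D'.mem_ω.mp (D'.commutator_mem_of_sq hsq' ⟨x, hx⟩ ⟨y, hy⟩)))
  have hMcard : Nat.card M ≤ (2 ^ n) ^ 3 := D'.card_le_cube hsq'
  set C := centralizer (M : Set G) with hC
  have hCinv : D.Inv C := D.centralizer_inv hM
  have hωC : D.ω ≤ C := fun z hz => mem_centralizer_iff.mpr fun y _ => mem_center_iff.mp (D.ω_le_center hz) y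
  have hCM : C ⊓ M ≤ D.ω := fun x hx =>
    hMcen x hx.2 fun y hy => (mem_centralizer_iff.mp hx.1 y hy).symm
  haveI hCn : C.Normal := inferInstance
  by_cases hCω : C ≤ D.ω
  swap
  · have htop : C ⊔ M = ⊤ := (hmax _ (D.sup_inv hCinv hM) le_sup_right).resolve_left fun h => hCω
      fun x hx => hCM ⟨hx, h.le (mem_sup_left hx)⟩
    intro g
    obtain ⟨d, hd, m, hm, rfl⟩ := mem_sup_of_normal_left.mp (htop.ge (mem_top g))
    rw [Commute.mul_pow (mem_centralizer_iff.mp hd m hm).symm]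
    exact D.ω.mul_mem (hCM ⟨C.pow_mem hd 2, hsqG d⟩) (hMsq m hm)
  by_cases hMG : ∀ g : G, ∀ m ∈ M, ⁅g, m⁆ ∈ D.ω
  · intro g
    refine hCω (mem_centralizer_iff.mpr fun m hm => ?_)
    refine (commutatorElement_eq_one_iff_commute.mp ?_).symm
    rw [comm_pow_left_of_central (D.ω_le_center (hMG g m hm))]
    exact hMG g m hm
  exfalso
  push Not at hMG
  obtain ⟨g₁, m₁, hm₁, ht₁⟩ := hMG
  set M1 := D.ω ⊔ ⁅M, (⊤ : Subgroup G)⁆ with hM1
  have hM1inv : D.Inv M1 := D.sup_inv D.ω_inv (D.comm_inv hM D.top_inv)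
  haveI hM1n : M1.Normal := inferInstance
  have hM1M : M1 ≤ M := sup_le hωM (commutator_le_left M ⊤)
  have hgen : ∀ g : G, ∀ m ∈ M, ⁅g, m⁆ ∈ M1 := fun g m hm => by
    rw [← commutatorElement_inv]
    exact M1.inv_mem (mem_sup_right (Subgroup.commutator_mem_commutator hm (mem_top g)))
  have hM1ne : M1 ≠ M := fun h => by
    have hbot : ⁅M, (⊤ : Subgroup G)⁆ = ⊥ := by
      refine D.descent ?_
      refine commutator_le.mpr fun m hm g _ => ?_
      have hm' : m ∈ D.ω ⊔ ⁅M, (⊤ : Subgroup G)⁆ := h.ge hm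
      obtain ⟨z, hz, t, ht, rfl⟩ := mem_sup_of_normal_left.mp hm'
      rw [show ⁅z * t, g⁆ = z * ⁅t, g⁆ * z⁻¹ * ⁅z, g⁆ by simp only [commutatorElement_def]; group,
        commutatorElement_eq_one_iff_commute.mpr (mem_center_iff.mp (D.ω_le_center hz) g).symm,
        mul_one, (mem_center_iff.mp (D.ω_le_center hz) _).symm, mul_inv_cancel_right]
      exact Subgroup.commutator_mem_commutator ht (mem_top g)
    refine ht₁ ?_
    rw [← commutatorElement_inv, (mem_bot.mp (hbot.le (Subgroup.commutator_mem_commutator hm₁ (mem_top g₁))))]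
    exact D.ω.inv_mem D.ω.one_mem
  have hM1ω : M1 ≠ D.ω := fun h => ht₁ (h.le (hgen g₁ m₁ hm₁))
  have hc1 : Nat.card M = 2 ^ n * Nat.card M1 ∧ Nat.card M1 = 2 ^ n * Nat.card D.ω := by
    obtain ⟨a, ha⟩ := D.card_pow hM1inv
    obtain ⟨b, hb⟩ := D.card_pow hM
    have h4 : 1 < 2 ^ n := lt_of_lt_of_le (by norm_num) D.four_le
    have hb3 : b ≤ 3 := (Nat.pow_le_pow_iff_right h4).mp (hb ▸ hMcard)
    have h1 : Nat.card D.ω < Nat.card M1 := by
      by_contra h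
      exact hM1ω (eq_of_le_of_card_ge le_sup_left (not_lt.mp h)).symm
    have h2 : Nat.card M1 < Nat.card M := by
      by_contra h
      exact hM1ne (eq_of_le_of_card_ge hM1M (not_lt.mp h))
    rw [D.card_ω, ha] at h1
    rw [ha, hb] at h2
    have ha1 : 1 < a := (Nat.pow_lt_pow_iff_right h4).mp (by rw [pow_one]; exact h1)
    have ha2 : a < b := (Nat.pow_lt_pow_iff_right h4).mp h2
    rw [D.card_ω, ha, hb, show a = 2 by omega, show b = 3 by omega]
    constructor <;> ring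
  have hM1G : ∀ g : G, ∀ y ∈ M1, ⁅g, y⁆ ∈ D.ω := fun g y hy => by
    rw [← commutatorElement_inv]
    exact D.ω.inv_mem ((D.comm_le D.ω_normal hM1n D.ω_inv hM1inv le_sup_left hc1.2)
      (Subgroup.commutator_mem_commutator hy (mem_top g)))
  have hM1sq : ∀ x ∈ M1, x ^ 2 ∈ D.ω := fun x hx => hMsq x (hM1M hx)
  have hconjfix : ∀ g : G, ∀ z ∈ D.ω, g * z * g⁻¹ = z := fun g z hz => by
    rw [mem_center_iff.mp (D.ω_le_center hz) g, mul_inv_cancel_right]
  have hM1c : ∀ a ∈ M1, ∀ b ∈ M1, a * b = b * a := by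
    intro a ha b hb
    have hle : M1 ≤ centralizer ({b} : Set G) := by
      refine sup_le (fun z hz => mem_centralizer_singleton_iff.mpr
        (mem_center_iff.mp (D.ω_le_center hz) b).symm) (commutator_le.mpr fun m hm g _ => ?_)
      refine mem_centralizer_singleton_iff.mpr ?_
      set t := ⁅g, m⁆ with ht
      suffices h : Commute t b by
        rw [← commutatorElement_inv, ← ht]; exact h.inv_left.eq
      refine commutatorElement_eq_one_iff_commute.mp ?_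
      set z := ⁅g, b⁆ with hz
      have hzω : z ∈ D.ω := hM1G g b hb
      have htb : ⁅t, b⁆ ∈ D.ω := hMcom t (hM1M (hgen g m hm)) b (hM1M hb)
      have h1 : g * ⁅m, b⁆ * g⁻¹ = ⁅m, b⁆ := hconjfix g _ (hMcom m hm b (hM1M hb))
      have h2 : g * ⁅m, b⁆ * g⁻¹ = ⁅t, b⁆ * ⁅m, b⁆ := by
        rw [show g * ⁅m, b⁆ * g⁻¹ = ⁅t * m, z * b⁆ by
          simp only [ht, hz, commutatorElement_def]; group,
          comm_mul_right_of_central (D.ω_le_center (hMcom _ (M.mul_mem (hM1M (hgen g m hm)) hm) b (hM1M hb))),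
          commutatorElement_eq_one_iff_commute.mpr (mem_center_iff.mp (D.ω_le_center hzω) (t * m)),
          one_mul, comm_mul_left_of_central (D.ω_le_center (hMcom m hm b (hM1M hb)))]
      rw [h1] at h2
      exact mul_eq_right.mp h2.symm
    exact mem_centralizer_singleton_iff.mp (hle ha)
  have hωne : D.ω ≠ ⊥ := fun h => by
    have := D.card_ω; rw [h, card_bot] at this; have := D.four_le; omega
  have hbot : D.Inv ⊥ := fun x hx => by rw [mem_bot] at hx ⊢; rw [hx, map_one]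
  obtain ⟨φ, hφ⟩ := exists_coord (D := D) hF inferInstance hbot D.ω_inv
    (bot_lt_iff_ne_bot.mpr hωne) (fun x hx => mem_bot.mpr hx)
    (fun H hH _ hle => by
      by_cases h : H = ⊥
      · exact Or.inl h
      · exact Or.inr (le_antisymm hle (D.ω_le hH h)))
    (fun x hx => mem_bot.mpr (by rw [D.order x hx, inv_mul_cancel]))
  have hφinj : ∀ z ∈ D.ω, φ.e z = 0 → z = 1 := fun z hz h => mem_bot.mp ((hφ z hz).mp h)
  obtain ⟨y₁, hy₁, hy₁ω⟩ : ∃ y ∈ M1, y ∉ D.ω := ⟨_, hgen g₁ m₁ hm₁, ht₁⟩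
  let σ : Coord D M1 F :=
    { e := fun t => φ.e (t ^ 2)
      μ := φ.μ
      order := φ.order
      mul := fun a ha b hb => by
        rw [Commute.mul_pow (hM1c a ha b hb) 2]
        exact φ.mul _ (hM1sq a ha) _ (hM1sq b hb)
      surj := fun v => by
        obtain ⟨z, hz, hzv⟩ := φ.surj v
        obtain ⟨c, hc, hcz⟩ := D.image_eq hM1inv (fun x => x ^ 2)
          (fun a ha b hb => (show Commute a b from hM1c a ha b hb).mul_pow 2) hM1sq
          (fun a _ => (map_pow D.ξ a 2).symm) hy₁ (fun h => hy₁ω h) hz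
        exact ⟨c, hc, by rw [hcz]; exact hzv⟩
      equiv := fun a ha => by rw [← map_pow]; exact φ.equiv _ (hM1sq a ha) }
  have hσ0 : ∀ t ∈ M1, σ.e t = 0 → t ∈ D.ω := fun t ht h => hφinj _ (hM1sq t ht) h
  have hσω : ∀ z ∈ D.ω, σ.e z = 0 := fun z hz => by
    show φ.e (z ^ 2) = 0
    rw [D.mem_ω.mp hz, φ.map_one]
  set Q : G → G → F := fun m t => φ.e ⁅m, t⁆ with hQ
  have ql : ∀ m ∈ M, ∀ m' ∈ M, ∀ t ∈ M1, Q (m * m') t = Q m t + Q m' t := fun m hm m' hm' t ht => by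
    show φ.e ⁅m * m', t⁆ = φ.e ⁅m, t⁆ + φ.e ⁅m', t⁆
    rw [comm_mul_left_of_central (D.ω_le_center (hMcom m' hm' t (hM1M ht))),
      φ.mul _ (hMcom m hm t (hM1M ht)) _ (hMcom m' hm' t (hM1M ht))]
  have qr : ∀ m ∈ M, ∀ t ∈ M1, ∀ t' ∈ M1, Q m (t * t') = Q m t + Q m t' := fun m hm t ht t' ht' => by
    show φ.e ⁅m, t * t'⁆ = _
    rw [comm_mul_right_of_central (D.ω_le_center (hMcom m hm t' (hM1M ht'))),
      φ.mul _ (hMcom m hm t (hM1M ht)) _ (hMcom m hm t' (hM1M ht'))]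
  have ql0 : ∀ m ∈ M1, ∀ t ∈ M1, Q m t = 0 := fun m hm t ht => by
    show φ.e _ = 0
    rw [commutatorElement_eq_one_iff_commute.mpr (hM1c m hm t ht), φ.map_one]
  have qr0 : ∀ m ∈ M, ∀ t ∈ M1, σ.e t = 0 → Q m t = 0 := fun m hm t ht h => by
    show φ.e _ = 0
    rw [commutatorElement_eq_one_iff_commute.mpr
      (mem_center_iff.mp (D.ω_le_center (hσ0 t ht h)) m), φ.map_one]
  have qeq : ∀ m ∈ M, ∀ t ∈ M1, Q (D.ξ m) (D.ξ t) = φ.μ * Q m t := fun m hm t ht => by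
    show φ.e ⁅D.ξ m, D.ξ t⁆ = _
    rw [← map_commutatorElement]
    exact φ.equiv _ (hMcom m hm t (hM1M ht))
  -- conjugation preserves squares
  have hkey' : ∀ g : G, ∀ m ∈ M, Q m ⁅g, m⁆ = σ.e ⁅g, m⁆ := by
    intro g m hm
    set t := ⁅g, m⁆ with ht
    have htM : t ∈ M := hM1M (hgen g m hm)
    show φ.e ⁅m, t⁆ = φ.e (t ^ 2)
    have h1 : (t * m) ^ 2 = m ^ 2 := by
      rw [show t * m = g * m * g⁻¹ by rw [ht, commutatorElement_def]; group, conj_pow]
      exact hconjfix g _ (hMsq m hm)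
    have hc := mem_center_iff.mp (D.ω_le_center (hMcom m hm t htM))
    have h2 : (t * m) ^ 2 = ⁅m, t⁆ * (t ^ 2 * m ^ 2) := by
      calc (t * m) ^ 2 = t * ⁅m, t⁆ * t * m * m := by rw [pow_two, commutatorElement_def]; group
        _ = ⁅m, t⁆ * t * t * m * m := by rw [hc t]
        _ = ⁅m, t⁆ * (t ^ 2 * m ^ 2) := by rw [pow_two, pow_two]; group
    rw [h1, ← mul_assoc] at h2
    have h3 : ⁅m, t⁆ * t ^ 2 = 1 := mul_eq_right.mp h2.symm
    refine congrArg φ.e ?_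
    rw [eq_inv_of_mul_eq_one_left h3]
    exact inv_eq_of_mul_eq_one_right (by rw [← pow_two]; exact hM1sq t (hgen g m hm))
  obtain ⟨-, τ, hτ⟩ := exists_left_coord hF hM1n hM1inv hM hM1inv (lt_of_le_of_ne hM1M hM1ne)
    (fun x hx => mem_sup_left (hMsq x hx))
    (fun H hH hle hle' => D.card_eq_of_between hM1inv hH hle hle' hc1.1) σ Q φ.μ φ.order ql qr ql0 qr0 qeq
    ⟨m₁, hm₁, _, hgen g₁ m₁ hm₁, fun h => ht₁ (hσ0 _ (hgen g₁ m₁ hm₁) ((hkey' g₁ m₁ hm₁).symm.trans h))⟩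
  obtain ⟨B, hBl, hBr, hBeq, hB⟩ := exists_bilinear hM hM1inv τ σ Q φ.μ ql qr
    (fun m hm t ht h => ql0 m ((hτ m hm).mp h) t ht) qr0 qeq
  have hkey : ∀ g : G, ∀ m ∈ M, B (τ.e m) (σ.e ⁅g, m⁆) = σ.e ⁅g, m⁆ := fun g m hm => by
    rw [← hB m hm _ (hgen g m hm)]
    exact hkey' g m hm
  rcases Semi.bilinear_weight D.two_le hF D.mul_eq D.dvd D.one_lt B hBl hBr τ.order φ.order hBeq with
    hB0 | ⟨hnd, huniq⟩
  · refine ht₁ (hσ0 _ (hgen g₁ m₁ hm₁) ?_)
    rw [← hkey g₁ m₁ hm₁, hB0]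
  set T : G → G → F := fun g m => σ.e ⁅g, m⁆ with hT
  have tl : ∀ g ∈ (⊤ : Subgroup G), ∀ h ∈ (⊤ : Subgroup G), ∀ m ∈ M, T (g * h) m = T g m + T h m :=
    fun g _ h _ m hm => by
      show σ.e _ = σ.e _ + σ.e _
      rw [show ⁅g * h, m⁆ = ⁅g, ⁅h, m⁆⁆ * ⁅h, m⁆ * ⁅g, m⁆ by simp only [commutatorElement_def]; group,
        σ.mul _ (M1.mul_mem (mem_sup_left (hM1G g _ (hgen h m hm))) (hgen h m hm)) _ (hgen g m hm),
        σ.mul _ (mem_sup_left (hM1G g _ (hgen h m hm))) _ (hgen h m hm), hσω _ (hM1G g _ (hgen h m hm)), zero_add, add_comm]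
  have hadd : ∀ g : G, ∀ m ∈ M, ∀ m' ∈ M, σ.e ⁅g, m * m'⁆ = σ.e ⁅g, m⁆ + σ.e ⁅g, m'⁆ := by
    intro g m hm m' hm'
    have hcen : ⁅m, ⁅g, m'⁆⁆ ∈ D.ω := hMcom m hm _ (hM1M (hgen g m' hm'))
    rw [show ⁅g, m * m'⁆ = ⁅g, m⁆ * (⁅m, ⁅g, m'⁆⁆ * ⁅g, m'⁆) by simp only [commutatorElement_def]; group,
      σ.mul _ (hgen g m hm) _ (M1.mul_mem (mem_sup_left hcen) (hgen g m' hm')),
      σ.mul _ (mem_sup_left hcen) _ (hgen g m' hm'), hσω _ hcen, zero_add]
  have tl0 : ∀ g ∈ M, ∀ m ∈ M, T g m = 0 := fun g hg m hm => hσω _ (hMcom g hg m hm)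
  have tr0 : ∀ g ∈ (⊤ : Subgroup G), ∀ m ∈ M, τ.e m = 0 → T g m = 0 := fun g _ m hm h =>
    hσω _ (hM1G g m ((hτ m hm).mp h))
  have teq : ∀ g ∈ (⊤ : Subgroup G), ∀ m ∈ M, T (D.ξ g) (D.ξ m) = σ.μ * T g m := fun g _ m hm => by
    show σ.e _ = _
    rw [← map_commutatorElement]
    exact σ.equiv _ (hgen g m hm)
  obtain ⟨hKM, γ, hγ⟩ := exists_left_coord hF hMn hM D.top_inv hM (lt_top_iff_ne_top.mpr hne)
    (fun x _ => hsqG x) (fun H hH hle _ => hmax H hH hle) τ T σ.μ σ.order tl (fun g _ => hadd g) tl0 tr0 teq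
    ⟨g₁, mem_top _, m₁, hm₁, fun h => ht₁ (hσ0 _ (hgen g₁ m₁ hm₁) h)⟩
  have hnz : ∀ g : G, g ∉ M → ∀ m ∈ M, m ∉ M1 → σ.e ⁅g, m⁆ ≠ 0 := by
    intro g hg h hh hhM1 h0
    obtain ⟨m, hm, hm0⟩ : ∃ m ∈ M, σ.e ⁅g, m⁆ ≠ 0 := by
      by_contra hc
      push Not at hc
      exact hg (hKM g (mem_top g) hc)
    have hτh : τ.e h ≠ 0 := fun e => hhM1 ((hτ h hh).mp e)
    refine hnd (τ.e h) (σ.e ⁅g, m⁆) hτh hm0 ?_
    have h1 := hkey g (h * m) (M.mul_mem hh hm)
    rw [hadd g h hh m hm, h0, zero_add, τ.mul h hh m hm, hBl, hkey g m hm] at h1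
    exact add_eq_right.mp h1
  obtain ⟨w, hw, hwM1⟩ := SetLike.exists_of_lt (lt_of_le_of_ne hM1M hM1ne)
  have hτw : τ.e w ≠ 0 := fun e => hwM1 ((hτ w hw).mp e)
  obtain ⟨g, -, hg⟩ := SetLike.exists_of_lt (lt_top_iff_ne_top.mpr hne)
  have hex : ∀ u, u ≠ 0 → ∃ t, t ≠ 0 ∧ B u t = t := fun u hu => by
    obtain ⟨x, hx, rfl⟩ := τ.surj u
    exact ⟨σ.e ⁅g, x⁆, hnz g hg x hx fun h => hu ((hτ x hx).mpr h), hkey g x hx⟩
  have hξg : D.ξ g ∉ M := fun h => hg (by
    obtain ⟨x, hx⟩ : ∃ x, (⟨D.ξ g, h⟩ : M) = D.res hM x :=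
      ⟨(D.res hM).symm ⟨D.ξ g, h⟩, ((D.res hM).apply_symm_apply _).symm⟩
    have : D.ξ g = D.ξ (x : G) := congrArg Subtype.val hx
    exact (D.ξ.injective this) ▸ x.2)
  have hgg : g * D.ξ g ∈ M := by
    by_contra hgM
    have hsum : σ.e ⁅g * D.ξ g, w⁆ = σ.e ⁅g, w⁆ + σ.e ⁅D.ξ g, w⁆ := by
      rw [show ⁅g * D.ξ g, w⁆ = ⁅g, ⁅D.ξ g, w⁆⁆ * ⁅D.ξ g, w⁆ * ⁅g, w⁆ by
        simp only [commutatorElement_def]; group,
        σ.mul _ (M1.mul_mem (mem_sup_left (hM1G g _ (hgen _ w hw))) (hgen _ w hw)) _ (hgen g w hw),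
        σ.mul _ (mem_sup_left (hM1G g _ (hgen _ w hw))) _ (hgen _ w hw), hσω _ (hM1G g _ (hgen _ w hw)),
        zero_add, add_comm]
    refine hnz _ hgM w hw hwM1 ?_
    rw [hsum, huniq hex (τ.e w) _ _ hτw (hnz g hg w hw hwM1) (hnz _ hξg w hw hwM1) (hkey g w hw)
      (hkey _ w hw)]
    exact CharTwo.add_self_eq_zero _
  have h0 := (hγ _ (mem_top _)).mpr hgg
  rw [γ.mul g (mem_top g) _ (mem_top _), γ.equiv g (mem_top g),
    show γ.e g + γ.μ * γ.e g = (1 + γ.μ) * γ.e g by ring, mul_eq_zero] at h0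
  rcases h0 with h0 | h0
  · have h1 : γ.μ = 1 := (CharTwo.add_eq_zero.mp h0).symm
    have h2 := γ.order
    rw [h1, orderOf_one] at h2
    have := D.one_lt
    omega
  · exact hg ((hγ g (mem_top g)).mp h0)

theorem higman_aux : ∀ (N : ℕ) (G : Type u) [Group G] [Finite G] (n : ℕ) (D : Data G n),
    Nat.card G = N → ¬ IsMulCommutative G → ∀ g : G, g ^ 2 ∈ D.ω := by
  intro N
  induction N using Nat.strong_induction_on with
  | _ N ih =>
  intro G _ _ n D hN hna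
  classical
  haveI := Fact.mk Nat.prime_two
  haveI := D.isPGroup.isNilpotent
  haveI : Nontrivial G := by
    by_contra h
    haveI := not_nontrivial_iff_subsingleton.mp h
    exact hna ⟨⟨fun a b => Subsingleton.elim _ _⟩⟩
  have hΦ : frattini G ≠ ⊤ := CfsgLib.PGroups.frattini_ne_top
  obtain ⟨M, ⟨hM, hΦM, hMne⟩, hmax⟩ := Set.exists_max_image
    {H : Subgroup G | D.Inv H ∧ frattini G ≤ H ∧ H ≠ ⊤} (fun H => Nat.card H) (Set.toFinite _)
    ⟨frattini G, D.char_inv _, le_rfl, hΦ⟩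
  have hcom : ∀ g h : G, ⁅g, h⁆ ∈ M := fun g h =>
    hΦM (CfsgLib.PGroups.commutator_le_frattini (commutator_mem_commutator (mem_top g) (mem_top h)))
  have hMn : M.Normal := ⟨fun x hx g => by
    rw [show g * x * g⁻¹ = ⁅g, x⁆ * x by rw [commutatorElement_def]; group]
    exact M.mul_mem (hcom g x) hx⟩
  have hsqG : ∀ g : G, g ^ 2 ∈ M := fun g => hΦM (CfsgLib.PGroups.pow_mem_frattini D.isPGroup g)
  have hmax' : ∀ H : Subgroup G, D.Inv H → M ≤ H → H = M ∨ H = ⊤ := fun H hH hle => by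
    by_cases h : H = ⊤
    · exact Or.inr h
    · exact Or.inl (eq_of_le_of_card_ge hle (hmax H ⟨hH, hΦM.trans hle, h⟩)).symm
  have hMbot : M ≠ ⊥ := fun h => hna ⟨⟨fun a b =>
    (commutatorElement_eq_one_iff_commute.mp (mem_bot.mp (h ▸ hcom a b))).eq⟩⟩
  by_cases hMc : IsMulCommutative M
  · exact abelian_case D hMn hM hMne
      (fun a ha b hb => congrArg Subtype.val (mul_comm' (⟨a, ha⟩ : M) ⟨b, hb⟩))
      (D.ω_le hM hMbot) hsqG hcom hmax' hna
  · refine nonabelian_case D hMn hM hsqG hmax' hMne hMc fun x hx => ?_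
    have hlt : Nat.card M < N := by
      rw [← hN]
      by_contra h
      exact hMne (Subgroup.eq_top_of_le_card _ (not_lt.mp h))
    exact D.mem_ω.mpr (congrArg Subtype.val
      ((D.restrict hM hMbot).mem_ω.mp (ih _ hlt M n (D.restrict hM hMbot) rfl hMc ⟨x, hx⟩)))

/-- Higman's theorem. -/
theorem higman (D : Data G n) (hna : ¬ IsMulCommutative G) : ∀ g : G, g ^ 2 ∈ D.ω :=
  higman_aux _ G n D rfl hna

theorem center_eq (D : Data G n) (hna : ¬ IsMulCommutative G) : center G = D.ω :=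
  le_antisymm (D.center_le (higman D hna) hna) D.ω_le_center

end CfsgLib.PGroups.Suzuki.Semi
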