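import Mathlib
import Cfsg.Agent.S3774
import Cfsg.Agent.Lib.Recog.Huppert.Main
import Cfsg.Agent.Lib.PGroups.Suzuki.Semi.Higman

/-!
# A solvable group of automorphisms transitive on the involutions of a 2-group

`exists_data`: its image on the involutions is semilinear, and the linear part gives an
automorphism acting semiregularly as a group of order `(2 ^ n - 1) / d` with `d` dividing `n`.
-/

set_option autoImplicit false
set_option linter.all false

namespace CfsgLib.PGroups.Suzuki.Semi

open Subgroup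

universe u

/-- The linear part of a transitive group of semilinear maps of a field with `2 ^ n` elements. -/
theorem exists_linear_part {F : Type} [Field F] [Fintype F] [CharP F 2] {n : ℕ}
    (hcard : Fintype.card F = 2 ^ n) {H : Type*} [Group H] [Finite H] (act : H → F → F)
    (hact : ∀ g h x, act (g * h) x = act g (act h x)) (hone : ∀ x, act 1 x = x)
    (hfaith : ∀ g, (∀ x, act g x = x) → g = 1)
    (hsemi : ∀ g, ∃ (a : F) (σ : F ≃+* F), ∀ x, act g x = a * σ x)
    (hdvd : 2 ^ n - 1 ∣ Nat.card H) :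
    ∃ (c : H) (m d : ℕ), m * d = 2 ^ n - 1 ∧ d ∣ n ∧ c ^ m = 1 ∧
      ∀ (i : ℕ) (x : F), x ≠ 0 → act (c ^ i) x = x → m ∣ i := by
  classical
  haveI : Fact (Nat.Prime 2) := ⟨Nat.prime_two⟩
  choose a σ hσ using hsemi
  have ha0 : ∀ g, a g ≠ 0 := fun g h0 => by
    have h1 : ∀ x, act g x = 0 := fun x => by rw [hσ, h0, zero_mul]
    have h2 := hact g⁻¹ g 1
    have h3 := hact g⁻¹ g 0
    rw [inv_mul_cancel, hone, h1] at h2 h3
    exact one_ne_zero (h2.trans h3.symm)
  have huniq : ∀ (g : H) (b : F) (τ : F ≃+* F), (∀ x, act g x = b * τ x) → a g = b ∧ σ g = τ := by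
    intro g b τ hb
    have h1 : a g = b := by
      have := hb 1
      rw [hσ, map_one, map_one, mul_one, mul_one] at this
      exact this
    refine ⟨h1, RingEquiv.ext fun x => ?_⟩
    have := hb x
    rw [hσ, ← h1] at this
    exact mul_left_cancel₀ (ha0 g) this
  have hmul : ∀ g h, a (g * h) = a g * σ g (a h) ∧ σ (g * h) = (σ h).trans (σ g) := fun g h =>
    huniq _ _ _ fun x => by rw [hact, hσ h, hσ g, map_mul, RingEquiv.trans_apply, mul_assoc]
  let Φ : H →* RingAut F := MonoidHom.mk' σ fun g h => RingEquiv.ext fun x => by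
    rw [(hmul g h).2]; rfl
  -- the linear part is cyclic
  let ψ : Φ.ker →* F :=
    { toFun := fun g => a (g : H)
      map_one' := (huniq 1 1 (RingEquiv.refl F) fun x => by rw [hone, one_mul]; rfl).1
      map_mul' := fun g h => by
        show a ((g : H) * (h : H)) = _
        rw [(hmul _ _).1, show σ (g : H) = RingEquiv.refl F from MonoidHom.mem_ker.mp g.2]
        rfl }
  have hψ : ∀ (g : Φ.ker) (x : F), act (g : H) x = ψ g * x := fun g x => by
    rw [hσ, show σ (g : H) = RingEquiv.refl F from MonoidHom.mem_ker.mp g.2]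
    rfl
  have hψinj : Function.Injective ψ := by
    intro g h hgh
    have : g⁻¹ * h = 1 := Subtype.ext (hfaith _ fun x => by
      have h1 := hact ((g⁻¹ : Φ.ker) : H) (h : H) x
      have h2 := hact ((g⁻¹ : Φ.ker) : H) (g : H) x
      rw [hψ h, ← hgh, ← hψ g] at h1
      rw [Subgroup.coe_mul]
      refine h1.trans (h2.symm.trans ?_)
      rw [Subgroup.coe_inv, inv_mul_cancel, hone])
    exact (inv_mul_eq_one.mp this)
  haveI : IsCyclic Φ.ker := isCyclic_of_subgroup_isDomain ψ hψinj
  obtain ⟨c, hc⟩ := IsCyclic.exists_generator (α := Φ.ker)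
  set m := Nat.card Φ.ker with hm
  have hordc : orderOf c = m := orderOf_eq_card_of_forall_mem_zpowers hc
  -- the order of the automorphism group of the field
  letI : Algebra (ZMod 2) F := ZMod.algebra F 2
  have hfr : Module.finrank (ZMod 2) F = n := by
    have h := Module.natCard_eq_pow_finrank (K := ZMod 2) (V := F)
    rw [Nat.card_eq_fintype_card, hcard, Nat.card_zmod] at h
    exact (Nat.pow_right_injective le_rfl h).symm
  have haut : Nat.card (RingAut F) = n := by
    rw [← hfr, ← IsGalois.card_aut_eq_finrank (ZMod 2) F]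
    exact Nat.card_congr
      { toFun := fun f => AlgEquiv.ofRingEquiv (f := f) fun x =>
          RingHom.congr_fun (RingHom.ext_zmod (f.toRingHom.comp (algebraMap (ZMod 2) F)) (algebraMap (ZMod 2) F)) x
        invFun := fun f => f.toRingEquiv
        left_inv := fun f => RingEquiv.ext fun x => rfl
        right_inv := fun f => AlgEquiv.ext fun x => rfl }
  have hs : Nat.card Φ.range ∣ n := haut ▸ Subgroup.card_subgroup_dvd_card Φ.range
  have hH : Nat.card H = m * Nat.card Φ.range := by
    rw [hm, ← Φ.ker.card_mul_index, Subgroup.index_ker]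
  have hmq : m ∣ 2 ^ n - 1 := by
    have h1 : orderOf (ψ c) = m := by rw [orderOf_injective ψ hψinj c, hordc]
    have h2 := orderOf_dvd_of_pow_eq_one
      (FiniteField.pow_card_sub_one_eq_one (ψ c) (ha0 _))
    rw [h1, hcard] at h2
    exact h2
  obtain ⟨d, hd⟩ := hmq
  have hm0 : 0 < m := Nat.card_pos
  have hds : d ∣ Nat.card Φ.range := by
    rw [hd, hH] at hdvd
    exact Nat.dvd_of_mul_dvd_mul_left hm0 hdvd
  refine ⟨c, m, d, hd.symm, hds.trans hs, ?_, fun i x hx hfix => ?_⟩
  · rw [← Subgroup.coe_pow, ← hordc, pow_orderOf_eq_one]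
    rfl
  · rw [← Subgroup.coe_pow, hψ] at hfix
    have h1 : ψ (c ^ i) = 1 := mul_right_cancel₀ hx (hfix.trans (one_mul x).symm)
    rw [← hordc]
    exact orderOf_dvd_of_pow_eq_one (hψinj (h1.trans (map_one ψ).symm))

theorem exists_data {G : Type u} [Group G] [Finite G] (hG : IsPGroup 2 G)
    (htwo : ∃ x y : G, x ≠ y ∧ x ≠ 1 ∧ x ^ 2 = 1 ∧ y ≠ 1 ∧ y ^ 2 = 1)
    (Y : Subgroup (MulAut G)) (hY : Group.IsSolvable Y)
    (htr : ∀ x y : G, x ≠ 1 → x ^ 2 = 1 → y ≠ 1 → y ^ 2 = 1 → ∃ a ∈ Y, a x = y) :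
    ∃ n, Nonempty (Data G n) := by
  classical
  haveI := Fact.mk Nat.prime_two
  obtain ⟨s, t, hst, hs1, hs, ht1, ht⟩ := htwo
  haveI : Nontrivial G := ⟨⟨s, 1, hs1⟩⟩
  obtain ⟨hcent, -⟩ := Cfsg.Agent.S3774.result hG fun x y a b c d => by
    obtain ⟨f, -, hf⟩ := htr x y a b c d
    exact ⟨f, hf⟩
  let Ω : Subgroup G :=
    { carrier := {x | x ^ 2 = 1}
      one_mem' := one_pow 2
      mul_mem' := fun {a b} (ha : a ^ 2 = 1) (hb : b ^ 2 = 1) => show (a * b) ^ 2 = 1 by
        rw [(show Commute a b from mem_center_iff.mp (hcent b hb) a).mul_pow, ha, hb, mul_one]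
      inv_mem' := fun {a} (h : a ^ 2 = 1) => show a⁻¹ ^ 2 = 1 by rw [inv_pow, h, inv_one] }
  letI : CommGroup Ω :=
    { (inferInstance : Group Ω) with
      mul_comm := fun a b => Subtype.ext (mem_center_iff.mp (hcent b b.2) a) }
  obtain ⟨n, hn⟩ := IsPGroup.iff_card.mp (hG.to_subgroup Ω)
  have hcard : Nat.card {x : G // x ^ 2 = 1} = 2 ^ n := hn
  have hn2 : 2 ≤ n := by
    by_contra h
    haveI : Fintype G := Fintype.ofFinite G
    have h3 : ({1, s, t} : Finset G).card = 3 := by
      rw [Finset.card_insert_of_notMem (by simp [Ne.symm hs1, Ne.symm ht1]),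
        Finset.card_insert_of_notMem (by simp [hst]), Finset.card_singleton]
    have h4 := Finset.card_le_card (s := ({1, s, t} : Finset G))
      (t := Finset.univ.filter fun x => x ^ 2 = 1) (fun x hx => by
        simp only [Finset.mem_insert, Finset.mem_singleton] at hx
        rcases hx with rfl | rfl | rfl <;> simp [hs, ht])
    rw [h3, ← Fintype.card_subtype, ← Nat.card_eq_fintype_card, hcard] at h4
    have := Nat.pow_le_pow_right two_pos (show n ≤ 1 by omega)
    omega
  -- the linear action on the involutions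
  haveI : Finite (Additive Ω) := inferInstanceAs (Finite Ω)
  letI : Module (ZMod 2) (Additive Ω) := AddCommGroup.zmodModule fun u => by
    show (u.toMul ^ 2 : Ω) = 1
    exact Subtype.ext u.toMul.2
  haveI : Nontrivial (Additive Ω) :=
    ⟨⟨Additive.ofMul ⟨s, hs⟩, 0, fun h => hs1 (congrArg Subtype.val h)⟩⟩
  have hmem : ∀ (f : MulAut G) (v : Ω), f (v : G) ∈ Ω := fun f v => by
    show f (v : G) ^ 2 = 1
    rw [← map_pow, show (v : G) ^ 2 = 1 from v.2, map_one]
  let r : MulAut G → (Additive Ω →+ Additive Ω) := fun f =>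
    AddMonoidHom.mk' (fun v => Additive.ofMul (⟨f (v.toMul : G), hmem f v.toMul⟩ : Ω))
      fun v w => Additive.toMul.injective (Subtype.ext (map_mul f (v.toMul : G) (w.toMul : G)))
  let ρ : Y →* (Additive Ω ≃ₗ[ZMod 2] Additive Ω) :=
    { toFun := fun y =>
        { toFun := r y
          map_add' := map_add (r y)
          map_smul' := fun c x => ZMod.map_smul (r y) c x
          invFun := r (y : MulAut G)⁻¹
          left_inv := fun v => Additive.toMul.injective (Subtype.ext ((y : MulAut G).symm_apply_apply _))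
          right_inv := fun v => Additive.toMul.injective (Subtype.ext ((y : MulAut G).apply_symm_apply _)) }
      map_one' := LinearEquiv.ext fun v => rfl
      map_mul' := fun y z => LinearEquiv.ext fun v => rfl }
  haveI := hY
  haveI : Group.IsSolvable ρ.range := solvable_of_surjective ρ.rangeRestrict_surjective
  haveI : Finite ρ.range := Finite.of_surjective _ ρ.rangeRestrict_surjective
  have htrans : ∀ v w : Additive Ω, v ≠ 0 → w ≠ 0 → ∃ g : ρ.range, ρ.range.subtype g v = w := by
    intro v w hv hw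
    obtain ⟨f, hf, hfv⟩ := htr (v.toMul : G) (w.toMul : G)
      (fun h => hv (Additive.toMul.injective (Subtype.ext h))) v.toMul.2
      (fun h => hw (Additive.toMul.injective (Subtype.ext h))) w.toMul.2
    exact ⟨⟨ρ ⟨f, hf⟩, ⟨f, hf⟩, rfl⟩, Additive.toMul.injective (Subtype.ext hfv)⟩
  have hV : Nat.card (Additive Ω) = 2 ^ n := hn
  rcases Recog.Huppert.semilinear_or_exceptional ρ.range.subtype_injective htrans with
    ⟨F, hFf, hFfin, e, hsemi⟩ | hexc
  swap
  · exfalso
    rw [hV] at hexc
    have he : 2 ∣ 2 ^ n := dvd_pow_self 2 (by omega)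
    simp only [Set.mem_insert_iff, Set.mem_singleton_iff] at hexc
    rcases hexc with h | h | h | h | h | h <;> rw [h] at he <;> omega
  haveI : CharP F 2 := CharTwo.of_one_ne_zero_of_two_eq_zero one_ne_zero (by
    rw [← one_add_one_eq_two, ← e.apply_symm_apply (1 : F), ← map_add]
    refine (congrArg e ?_).trans (map_zero e)
    show (e.symm 1).toMul * (e.symm 1).toMul = 1
    rw [← pow_two]
    exact Subtype.ext (e.symm 1).toMul.2)
  have hcF : Fintype.card F = 2 ^ n := by
    rw [← Nat.card_eq_fintype_card, ← hV]; exact (Nat.card_congr e.toEquiv).symm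
  have hdvd : 2 ^ n - 1 ∣ Nat.card ρ.range := by
    have h := Recog.Huppert.pow_sub_one_dvd_card htrans
    have h2 := Module.natCard_eq_pow_finrank (K := ZMod 2) (V := Additive Ω)
    rw [hV, Nat.card_zmod] at h2
    rwa [← h2] at h
  obtain ⟨c, m, d, hmd, hd, hcm, hfree⟩ := exists_linear_part hcF
    (fun (g : ρ.range) x => e (ρ.range.subtype g (e.symm x)))
    (fun g h x => by simp only [map_mul, e.symm_apply_apply]; rfl)
    (fun x => by simp)
    (fun g hg => ρ.range.subtype_injective (LinearEquiv.ext fun v => by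
      have h1 := hg (e v)
      rw [e.symm_apply_apply] at h1
      rw [map_one]
      exact e.injective h1))
    (fun g => by
      obtain ⟨a, σ, h⟩ := hsemi g
      exact ⟨a, σ, fun x => by rw [h, e.apply_symm_apply]⟩)
    hdvd
  obtain ⟨y, hy⟩ := c.2
  have hyc : ∀ i : ℕ, ρ (y ^ i) = ((c ^ i : ρ.range) : Additive Ω ≃ₗ[ZMod 2] Additive Ω) := fun i => by
    rw [map_pow, hy, Subgroup.coe_pow]
  have hval : ∀ (i : ℕ) (z : G) (hz : z ^ 2 = 1),
      ((ρ (y ^ i) (Additive.ofMul (⟨z, hz⟩ : Ω))).toMul : G) = ((y : MulAut G) ^ i) z := fun i z hz => by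
    show ((y ^ i : Y) : MulAut G) z = _
    rw [Subgroup.coe_pow]
  refine ⟨n, ⟨⟨(y : MulAut G), m, d, hn2, hmd, hd, hG, hcent, hcard, fun z hz => ?_, fun i x hx hfix => ?_⟩⟩⟩
  · rw [← hval m z hz, hyc m, hcm]
    rfl
  · obtain ⟨j, hj⟩ := IsPGroup.iff_orderOf.mp hG x
    have hj0 : j ≠ 0 := fun h => hx (orderOf_eq_one_iff.mp (by rw [hj, h, pow_zero]))
    set z := x ^ 2 ^ (j - 1) with hz
    have hz1 : z ≠ 1 := pow_ne_one_of_lt_orderOf (pow_ne_zero _ two_ne_zero)
      (hj ▸ Nat.pow_lt_pow_right one_lt_two (by omega))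
    have hz2 : z ^ 2 = 1 := by
      rw [hz, ← pow_mul, ← pow_succ, show j - 1 + 1 = j by omega, ← hj, pow_orderOf_eq_one]
    refine hfree i (e (Additive.ofMul (⟨z, hz2⟩ : Ω))) (fun h => hz1 ?_) ?_
    · exact congrArg (fun v : Additive Ω => (v.toMul : G)) (e.injective (h.trans (map_zero e).symm))
    · show e (ρ.range.subtype (c ^ i) (e.symm (e (Additive.ofMul (⟨z, hz2⟩ : Ω))))) = _
      rw [e.symm_apply_apply]
      refine congrArg e (Additive.toMul.injective (Subtype.ext ?_))
      show ((((c ^ i : ρ.range) : Additive Ω ≃ₗ[ZMod 2] Additive Ω) (Additive.ofMul (⟨z, hz2⟩ : Ω))).toMul : G) = z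
      rw [← hyc i, hval i z hz2, hz, map_pow, hfix]

end CfsgLib.PGroups.Suzuki.Semi
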